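import Cfsg.Agent.Lib.Recog.SzModule.Classify

/-!
An equivariant biadditive map from two copies of the natural module of a Suzuki group to a third one
vanishes.
-/

set_option autoImplicit false
set_option linter.unusedSectionVars false
set_option linter.style.haveILetI false

namespace CfsgLib.Recog.SzModule

open Matrix Cfsg.Lie CfsgLib.KnownA.Suzuki

variable {F : Type*} [Field F] [Finite F] {e : ℕ} (H : TitsField F e) (h8 : 8 ≤ Nat.card F)
include H h8

/-- The top rows of `β (c e₃) (d e₀)` vanish and `β` vanishes on the line through `e₃`. -/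
theorem biadd_rows (β : (Fin 4 → F) →+ (Fin 4 → F) →+ (Fin 4 → F))
    (heq : ∀ (g : Sz F e) x y,
      β (nat4 (RingHom.id F) g x) (nat4 (RingHom.id F) g y) = nat4 (RingHom.id F) g (β x y))
    (c : F) :
    (∀ d, β ![0, 0, 0, c] ![d, 0, 0, 0] 0 = 0) ∧ (∀ d, β ![0, 0, 0, c] ![d, 0, 0, 0] 1 = 0) ∧
      ∀ d, β ![0, 0, 0, c] ![0, 0, 0, d] = 0 := by
  set T1 : F → F → Fin 4 → F := fun c x => β ![0, 0, 0, c] ![0, x, 0, 0] with hT1
  set T2 : F → F → Fin 4 → F := fun c x => β ![0, 0, 0, c] ![0, 0, x, 0] with hT2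
  set Q : F → F → Fin 4 → F := fun c x => β ![0, 0, 0, c] ![0, 0, 0, x] with hQ
  set P : F → F → Fin 4 → F := fun c x => β ![0, 0, 0, c] ![x, 0, 0, 0] with hP
  have hadd : ∀ (c : F) (u v : Fin 4 → F), β ![0, 0, 0, c] (u + v) =
      β ![0, 0, 0, c] u + β ![0, 0, 0, c] v := fun c u v => map_add _ u v
  have hPc : ∀ c c' d, P (c + c') d = P c d + P c' d := fun c c' d => by
    simp only [hP]
    rw [show (![0, 0, 0, c + c'] : Fin 4 → F) = ![0, 0, 0, c] + ![0, 0, 0, c'] by simp, map_add]
    rfl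
  have hfix : ∀ c x a b, nat4 (RingHom.id F) (su H a b) (Q c x) = Q c x := by
    intro c x a b
    simp only [hQ]
    rw [← heq, nat4_su, nat4_su]
    simp
  have hQ0 : ∀ c x, Q c x 0 = 0 ∧ Q c x 1 = 0 ∧ Q c x 2 = 0 := by
    intro c x
    have e1 := congrFun (hfix c x 1 0) 1
    have e2 := congrFun (hfix c x 1 0) 2
    have e3 := congrFun (hfix c x 1 0) 3
    simp [nat4_su] at e1 e2 e3
    refine ⟨e1, e2, ?_⟩
    rw [e1, e2] at e3
    linear_combination e3
  have hex : ∀ c d a b, nat4 (RingHom.id F) (su H a b) (P c d) = P c d + T1 c (d * a) +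
      T2 c (d * b) + Q c (d * (theta H a * a ^ 2 + a * b + theta H b)) := by
    intro c d a b
    simp only [hP, hT1, hT2, hQ]
    rw [← heq, ← hadd, ← hadd, ← hadd]
    congr 1
    · congr 1
      rw [nat4_su]
      simp
    · rw [nat4_su]
      funext j
      fin_cases j <;> simp [mul_comm d]
  have hrow : ∀ c d a b,
      T1 c (d * a) 0 + T2 c (d * b) 0 = 0 ∧
      a * P c d 0 = T1 c (d * a) 1 + T2 c (d * b) 1 ∧
      b * P c d 0 + theta H a * P c d 1 = T1 c (d * a) 2 + T2 c (d * b) 2 ∧
      (theta H a * a ^ 2 + a * b + theta H b) * P c d 0 + (b + theta H a * a) * P c d 1 +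
          a * P c d 2 = T1 c (d * a) 3 + T2 c (d * b) 3 +
            Q c (d * (theta H a * a ^ 2 + a * b + theta H b)) 3 := by
    intro c d a b
    obtain ⟨q0, q1, q2⟩ := hQ0 c (d * (theta H a * a ^ 2 + a * b + theta H b))
    have e0 := congrFun (hex c d a b) 0
    have e1 := congrFun (hex c d a b) 1
    have e2 := congrFun (hex c d a b) 2
    have e3 := congrFun (hex c d a b) 3
    simp [nat4_su, q0, q1, q2] at e0 e1 e2 e3
    refine ⟨?_, ?_, ?_, ?_⟩
    · linear_combination -e0
    · linear_combination e1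
    · linear_combination e2
    · linear_combination e3
  have hz : (![0, 0, 0, 0] : Fin 4 → F) = 0 := by simp
  have hT10 : ∀ c x, T1 c 0 x = 0 := fun c x => by simp [hT1, hz]
  have hT20 : ∀ c x, T2 c 0 x = 0 := fun c x => by simp [hT2, hz]
  have hQ00 : ∀ c x, Q c 0 x = 0 := fun c x => by simp [hQ, hz]
  have hp0 : ∀ c d, P c d 0 = d * P c 1 0 := by
    intro c d
    have e1 := (hrow c 1 d 0).2.1
    have e2 := (hrow c d 1 0).2.1
    simp only [mul_zero, hT20, add_zero, mul_one, one_mul] at e1 e2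
    rw [e2, ← e1]
  have hp1 : ∀ c d, P c d 1 = theta H d * P c 1 1 := by
    intro c d
    have e1 := (hrow c 1 d 0).2.2.1
    have e2 := (hrow c d 1 0).2.2.1
    simp only [mul_zero, hT20, add_zero, mul_one, one_mul, zero_mul, zero_add, map_one] at e1 e2
    rw [e2, ← e1]
  have hwt : ∀ (t : Fˣ) c d, P (c / (theta H (t : F) * t)) (theta H (t : F) * t * d) 0 =
      theta H (t : F) * t * P c d 0 ∧
      P (c / (theta H (t : F) * t)) (theta H (t : F) * t * d) 1 = t * P c d 1 := by
    intro t c d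
    have h3 : nat4 (RingHom.id F) (sh H t) ![0, 0, 0, c] =
        ![0, 0, 0, c / (theta H (t : F) * t)] := by
      rw [nat4_sh]
      simp [div_eq_inv_mul, mul_comm]
    have h4 : nat4 (RingHom.id F) (sh H t) ![d, 0, 0, 0] =
        ![theta H (t : F) * t * d, 0, 0, 0] := by
      rw [nat4_sh]
      simp
    have h := heq (sh H t) ![0, 0, 0, c] ![d, 0, 0, 0]
    rw [h3, h4, nat4_sh] at h
    exact ⟨by simpa [hP] using congrFun h 0, by simpa [hP] using congrFun h 1⟩
  have hP0 : ∀ c d, P c d 0 = 0 := by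
    have hinv : ∀ c s, s ≠ 0 → P (c / s) 1 0 = P c 1 0 := by
      intro c s hs
      obtain ⟨t, rfl⟩ := exists_unit_lam H hs
      have e1 := (hwt t c 1).1
      rw [hp0, mul_one] at e1
      exact mul_left_cancel₀ hs e1
    intro c d
    obtain ⟨s, hs0, hs1⟩ := exists_ne_zero_one h8
    suffices ∀ c, P c 1 0 = 0 by rw [hp0, this, mul_zero]
    intro c
    by_cases hc : c = 0
    · subst hc
      have := congrFun (hPc 0 0 1) 0
      simpa using this
    have h2 : s + 1 ≠ 0 := fun h => hs1 (H.eq_of_add h)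
    have e1 := hinv c s⁻¹ (inv_ne_zero hs0)
    have e2 := hinv c (s + 1)⁻¹ (inv_ne_zero h2)
    rw [div_inv_eq_mul] at e1 e2
    have e3 := congrFun (hPc (c * s) c 1) 0
    rw [show c * s + c = c * (s + 1) by ring, e2, Pi.add_apply, e1] at e3
    linear_combination -e3
  set k := P 1 1 1 with hk
  have hP1 : ∀ c d, P c d 1 = k * c * theta H d := by
    intro c d
    rw [hp1]
    suffices P c 1 1 = k * c by rw [this]; ring
    by_cases hc : c = 0
    · subst hc
      have := congrFun (hPc 0 0 1) 1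
      simpa using this
    obtain ⟨t, ht⟩ := exists_unit_lam H (inv_ne_zero hc)
    have e1 := (hwt t 1 1).2
    rw [ht, mul_one, hp1, one_div, inv_inv, ← ht, map_mul, theta_theta, ← hk] at e1
    have hs : theta H (t : F) * t * c = 1 := by rw [ht, inv_mul_cancel₀ hc]
    refine mul_left_cancel₀ (show (t : F) * (theta H (t : F) * t) ≠ 0 by simp) ?_
    linear_combination e1 - (t : F) * k * hs
  have hk0 : ∀ c b d, (d - theta H d) * b * (k * c) + Q c (d * theta H b) 3 -
      Q c (theta H d * theta H b) 3 = 0 := by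
    intro c b d
    have e1 := (hrow c d 0 b).2.2.2
    have e2 := (hrow c 1 0 (d * b)).2.2.2
    simp only [map_zero, zero_mul, mul_zero, zero_add, hP0, hP1, hT10, add_zero, map_one, mul_one,
      one_mul, map_mul] at e1 e2
    linear_combination e2 - e1
  have hkQ : ∀ c, k * c = 0 ∧ ∀ x, Q c x 3 = 0 := by
    intro c
    obtain ⟨s, hs0, hs1⟩ := exists_ne_zero_one h8
    obtain ⟨u, hu0, hu1, hus, hus1⟩ := exists_zero_one_ne h8 s
    have he : ∀ d, d ≠ 0 → d ≠ 1 → d - theta H d ≠ 0 := fun d h0 h1 =>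
      sub_ne_zero.2 (theta_ne_self H h0 h1).symm
    set e₁ := s - theta H s with he₁
    set e₂ := u - theta H u with he₂
    have hne : e₂ ≠ e₁ := by
      intro h
      by_cases hh : u - s = 1
      · exact hus1 (by linear_combination hh)
      · exact he (u - s) (sub_ne_zero.2 hus) hh (by rw [map_sub]; linear_combination h)
    have hrel : ∀ d b, (d - theta H d) * b * (k * c) + Q c ((d - theta H d) * theta H b) 3 = 0 := by
      intro d b
      have hs : Q c ((d - theta H d) * theta H b) =
          Q c (d * theta H b) - Q c (theta H d * theta H b) := by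
        simp only [hQ]
        rw [← map_sub]
        congr 1
        funext j
        fin_cases j <;> simp [sub_mul]
      rw [hs, Pi.sub_apply]
      linear_combination hk0 c b d
    obtain ⟨r, hr⟩ := theta_surjective H (e₂ / e₁)
    have h1 := hrel s r
    have h2 := hrel u 1
    rw [← he₁, hr, mul_div_cancel₀ _ (he s hs0 hs1)] at h1
    simp only [map_one, mul_one, ← he₂] at h2
    have h3 : (e₁ * r - e₂) * (k * c) = 0 := by linear_combination h1 - h2
    have hk0 : k * c = 0 := by
      refine (mul_eq_zero.1 h3).resolve_left fun h => ?_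
      have hr' : r = e₂ / e₁ := by
        rw [eq_div_iff (he s hs0 hs1)]
        linear_combination h
      have hr1 : theta H r = r := hr.trans hr'.symm
      by_cases hr0 : r = 0
      · rw [hr0, eq_comm, div_eq_zero_iff] at hr'
        exact hr'.elim (he u hu0 hu1) (he s hs0 hs1)
      by_cases hr1' : r = 1
      · rw [hr1', eq_comm, div_eq_one_iff_eq (he s hs0 hs1)] at hr'
        exact hne hr'
      · exact theta_ne_self H hr0 hr1' hr1
    refine ⟨hk0, fun x => ?_⟩
    obtain ⟨b, hb⟩ := theta_surjective H (x / e₁)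
    have h4 := hrel s b
    rw [hk0, mul_zero, zero_add, ← he₁, hb, mul_div_cancel₀ _ (he s hs0 hs1)] at h4
    exact h4
  refine ⟨fun d => hP0 c d, fun d => ?_, fun d => ?_⟩
  · show P c d 1 = 0
    rw [hP1, (hkQ c).1, zero_mul]
  · funext j
    obtain ⟨q0, q1, q2⟩ := hQ0 c d
    fin_cases j
    · exact q0
    · exact q1
    · exact q2
    · exact (hkQ c).2 d

/-- **No equivariant biadditive map between natural modules.** -/
theorem biadd_eq_zero (β : (Fin 4 → F) →+ (Fin 4 → F) →+ (Fin 4 → F))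
    (heq : ∀ (g : Sz F e) x y,
      β (nat4 (RingHom.id F) g x) (nat4 (RingHom.id F) g y) = nat4 (RingHom.id F) g (β x y)) :
    β = 0 := by
  have hflip : ∀ (g : Sz F e) x y, β.flip (nat4 (RingHom.id F) g x) (nat4 (RingHom.id F) g y) =
      nat4 (RingHom.id F) g (β.flip x y) := fun g x y => by simpa using heq g y x
  have hP : ∀ c d, β ![0, 0, 0, c] ![d, 0, 0, 0] = 0 := by
    intro c d
    obtain ⟨a0, a1, -⟩ := biadd_rows H h8 β heq c
    obtain ⟨b0, b1, -⟩ := biadd_rows H h8 β.flip hflip d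
    have h := heq (sw H) ![c, 0, 0, 0] ![0, 0, 0, d]
    rw [nat4_sw, nat4_sw, nat4_sw] at h
    have h0 := b0 c
    have h1 := b1 c
    simp only [AddMonoidHom.flip_apply] at h0 h1
    funext j
    fin_cases j
    · exact a0 d
    · exact a1 d
    · simpa [h1] using congrFun h 2
    · simpa [h0] using congrFun h 3
  have hline : ∀ c y, β ![0, 0, 0, c] y = 0 := by
    intro c y
    obtain ⟨-, -, hQ⟩ := biadd_rows H h8 β heq c
    have hab : ∀ a b, β ![0, 0, 0, c] ![0, a, 0, 0] + β ![0, 0, 0, c] ![0, 0, b, 0] = 0 := by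
      intro a b
      have h := heq (su H a b) ![0, 0, 0, c] ![1, 0, 0, 0]
      rw [nat4_su, nat4_su] at h
      simp only [Matrix.cons_val, mul_zero, add_zero, mul_one, zero_add, RingHom.id_apply] at h
      rw [hP, map_zero] at h
      rw [show (![1, a, b, theta H a * a ^ 2 + a * b + theta H b] : Fin 4 → F) =
        ![1, 0, 0, 0] + ![0, a, 0, 0] + ![0, 0, b, 0] +
          ![0, 0, 0, theta H a * a ^ 2 + a * b + theta H b] by simp] at h
      rw [map_add, map_add, map_add, hP, hQ, zero_add, add_zero] at h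
      exact h
    have h0 : β ![0, 0, 0, c] ![0, 0, 0, 0] = 0 := by
      rw [show (![0, 0, 0, 0] : Fin 4 → F) = 0 by simp, map_zero]
    have h1 : ∀ a, β ![0, 0, 0, c] ![0, a, 0, 0] = 0 := fun a => by
      simpa only [h0, add_zero] using hab a 0
    have h2 : ∀ b, β ![0, 0, 0, c] ![0, 0, b, 0] = 0 := fun b => by
      simpa only [h0, zero_add] using hab 0 b
    rw [show y = ![y 0, 0, 0, 0] + ![0, y 1, 0, 0] + ![0, 0, y 2, 0] + ![0, 0, 0, y 3] by
      funext j; fin_cases j <;> simp, map_add, map_add, map_add, hP, h1, h2, hQ]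
    simp
  let K : AddSubgroup (Fin 4 → F) := β.ker
  have hK : ∀ g : Sz F e, ∀ x ∈ K, nat4 (RingHom.id F) g x ∈ K := by
    intro g x hx
    rw [AddMonoidHom.mem_ker] at hx ⊢
    refine AddMonoidHom.ext fun y => ?_
    have h := heq g x (nat4 (RingHom.id F) g⁻¹ y)
    rw [← rep_mul, mul_inv_cancel, rep_one, hx] at h
    simpa using h
  have hmem : (![0, 0, 0, 1] : Fin 4 → F) ∈ K :=
    AddMonoidHom.mem_ker.2 (AddMonoidHom.ext fun y => by simpa using hline 1 y)
  have htop := nat4_irreducible H (RingHom.id F) K hK fun hb => by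
    rw [hb] at hmem
    simpa using congrFun (AddSubgroup.mem_bot.1 hmem) 3
  refine AddMonoidHom.ext fun x => ?_
  exact AddMonoidHom.mem_ker.1 (htop ▸ AddSubgroup.mem_top x : x ∈ K)

end CfsgLib.Recog.SzModule
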