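import Cfsg.Agent.Lib.Recog.SzModule.Defs

/-!
An irreducible module over the defining field on which elements of odd order have no fixed points is
a twisted natural module. The proof evaluates an invariant covector on the translates of a fixed
vector and sums over an element of order five.
-/

set_option autoImplicit false
set_option linter.unusedSectionVars false
set_option linter.style.haveILetI false

namespace CfsgLib.Recog.SzModule

open Matrix Cfsg.Lie CfsgLib.KnownA.Suzuki

variable {F : Type*} [Field F] [Finite F] {e : ℕ} (H : TitsField F e)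
include H

/-- The twisted natural modules have no invariant additive subgroup. -/
theorem nat4_irreducible (φ : F →+* F) (P : AddSubgroup (Fin 4 → F))
    (hP : ∀ g : Sz F e, ∀ v ∈ P, nat4 φ g v ∈ P) (hne : P ≠ ⊥) : P = ⊤ := by
  have hφ : Function.Surjective φ := Finite.surjective_of_injective φ.injective
  obtain ⟨v, hv, hv0⟩ := P.bot_or_exists_ne_zero.resolve_left hne
  have hdiff : ∀ g, ∀ v ∈ P, nat4 φ g v - v ∈ P := fun g v hv => P.sub_mem (hP g v hv) hv
  obtain ⟨c, hc, hcP⟩ : ∃ c : F, c ≠ 0 ∧ ![0, 0, 0, c] ∈ P := by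
    have key1 : ∀ v ∈ P, v 0 = 0 → v 1 = 0 → v 2 ≠ 0 → ∃ c : F, c ≠ 0 ∧ ![0, 0, 0, c] ∈ P := by
      intro v hv h0 h1 h2
      refine ⟨v 2, h2, ?_⟩
      convert hdiff (su H 1 0) v hv using 1
      rw [nat4_su]
      funext i
      fin_cases i <;> simp [h0, h1]
    by_cases h0 : v 0 = 0
    · by_cases h1 : v 1 = 0
      · by_cases h2 : v 2 = 0
        · refine ⟨v 3, fun h3 => hv0 ?_, ?_⟩
          · funext i
            fin_cases i <;> simp [h0, h1, h2, h3]
          · convert hv using 1
            funext i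
            fin_cases i <;> simp [h0, h1, h2]
        · exact key1 v hv h0 h1 h2
      · refine ⟨v 1, h1, ?_⟩
        convert hdiff (su H 0 1) v hv using 1
        rw [nat4_su]
        funext i
        fin_cases i <;> simp [h0]
    · refine key1 _ (hdiff (su H 0 1) v hv) ?_ ?_ ?_ <;>
        simp [nat4_su, h0]
  have h3 : ∀ c : F, ![0, 0, 0, c] ∈ P := by
    intro d
    by_cases hd : d = 0
    · subst hd
      convert P.zero_mem using 1
      funext i
      fin_cases i <;> simp
    obtain ⟨y, hy⟩ := hφ (c / d)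
    have hy0 : y ≠ 0 := by
      rintro rfl
      rw [map_zero] at hy
      exact div_ne_zero hc hd hy.symm
    obtain ⟨t, ht⟩ := exists_unit_lam H hy0
    convert hP (sh H t) _ hcP using 1
    rw [nat4_sh, ht, hy]
    funext i
    fin_cases i <;> simp
    field_simp
  have h0 : ∀ c : F, ![c, 0, 0, 0] ∈ P := by
    intro d
    convert hP (sw H) _ (h3 d) using 1
    rw [nat4_sw]
    funext i
    fin_cases i <;> simp
  have h1 : ∀ c : F, ![0, c, 0, 0] ∈ P := by
    intro d
    obtain ⟨a, rfl⟩ := hφ d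
    convert P.sub_mem (hdiff (su H a 0) _ (h0 1)) (h3 (φ (theta H a * a ^ 2))) using 1
    rw [nat4_su]
    funext i
    fin_cases i <;> simp
  have h2 : ∀ c : F, ![0, 0, c, 0] ∈ P := by
    intro d
    convert hP (sw H) _ (h1 d) using 1
    rw [nat4_sw]
    funext i
    fin_cases i <;> simp
  refine (AddSubgroup.eq_top_iff' P).2 fun x => ?_
  convert P.add_mem (P.add_mem (h0 (x 0)) (h1 (x 1))) (P.add_mem (h2 (x 2)) (h3 (x 3))) using 1
  funext i
  fin_cases i <;> simp

omit [Finite F] in
/-- The entries used to evaluate functions on the ovoid. -/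
theorem cells (g : Sz F e) : (g ∈ borel H ∧ mat g 0 3 = 0) ∨
    ∃ (a b c d : F) (t : Fˣ), g = su H a b * sw H * (su H c d * sh H t) ∧
      mat g 0 3 = (theta H (t : F) * t)⁻¹ := by
  rcases mem_borel_or H g with h | ⟨a, b, β, ⟨c, d, t, rfl⟩, rfl⟩
  · exact Or.inl ⟨h, ((mem_borel_iff H).1 h).1⟩
  · refine Or.inr ⟨a, b, c, d, t, rfl, ?_⟩
    simp [mat, su, sw, sh, uGL, wGL, hGL, uMat, wMat, hMat, fv, theta_apply, Matrix.mul_apply,
      Fin.sum_univ_four, pow_succ]

omit [Finite F] in
theorem five_entries (b : F) :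
    mat (sw H * su H 0 b) 0 3 = 1 ∧
    mat (sw H * su H 0 b * (su H 0 1 * sw H)) 0 3 = theta H b + 1 ∧
    mat (sw H * su H 0 b * (su H 0 1 * sw H) ^ 2) 0 3 = theta H b + b + 1 ∧
    mat (sw H * su H 0 b * (su H 0 1 * sw H) ^ 3) 0 3 = theta H b + b + 1 ∧
    mat (sw H * su H 0 b * (su H 0 1 * sw H) ^ 4) 0 3 = theta H b := by
  have hrow : ∀ j, mat (sw H * su H 0 b) 0 j = ![theta H b, b, 0, 1] j := by
    intro j
    fin_cases j <;>
      simp [mat, su, sw, uGL, wGL, uMat, wMat, fv, theta_apply, H.e_ne, Matrix.mul_apply,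
        Fin.sum_univ_four]
  have h2 := H.two
  have hm3 : mat ((su H (0 : F) 1 * sw H) ^ 3) =
      mat ((su H (0 : F) 1 * sw H) ^ 2) * mat (su H (0 : F) 1 * sw H) := by rw [pow_succ]; rfl
  have hm4 : mat ((su H (0 : F) 1 * sw H) ^ 4) =
      mat ((su H (0 : F) 1 * sw H) ^ 2) * mat ((su H (0 : F) 1 * sw H) ^ 2) := by
    rw [← mat_mul, ← pow_add]
  refine ⟨by simp [hrow], ?_, ?_, ?_, ?_⟩
  · rw [mat_mul, Matrix.mul_apply, Fin.sum_univ_four, mat_five H]
    simp [hrow]
  · rw [mat_mul, Matrix.mul_apply, Fin.sum_univ_four, mat_five_two H]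
    simp [hrow]
  · rw [mat_mul, Matrix.mul_apply, Fin.sum_univ_four, hm3, mat_five_two H, mat_five H]
    simp [hrow, Matrix.mul_apply, Fin.sum_univ_four]
    linear_combination (theta H b + 1) * h2
  · rw [mat_mul, Matrix.mul_apply, Fin.sum_univ_four, hm4, mat_five_two H]
    simp [hrow, Matrix.mul_apply, Fin.sum_univ_four]
    linear_combination (b + 2 + theta H b) * h2

section Orbit

variable {E : Type*} [AddCommGroup E] [Module F E] {ρ : Representation F (Sz F e) E} {v : E}
  {ξ : E →ₗ[F] F} {χ : Fˣ → F}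

omit [Finite F] in
theorem eval_cell (hv : ∀ a b, ρ (su H a b) v = v) (hχ : ∀ t, ρ (sh H t) v = χ t • v)
    (hξ : ∀ a b u, ξ (ρ (su H a b) u) = ξ u) (a b c d : F) (t : Fˣ) :
    ξ (ρ (su H a b * sw H * (su H c d * sh H t)) v) = χ t * ξ (ρ (sw H) v) := by
  simp only [rep_mul, hχ, map_smul, hv, hξ, smul_eq_mul]

/-- The covector vanishes at the vector. -/
theorem eval_one (hfpf : FPF ρ) (hv : ∀ a b, ρ (su H a b) v = v)
    (hχ : ∀ t, ρ (sh H t) v = χ t • v) (hξ : ∀ a b u, ξ (ρ (su H a b) u) = ξ u) (h1 : χ 1 = 1) :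
    ξ v = 0 := by
  have hs := congrArg ξ (hfpf.five_sum H v)
  rw [map_sum, map_zero, Finset.sum_range_succ', pow_zero, rep_one] at hs
  have hk : ∀ k ∈ Finset.range 4,
      ξ (ρ ((su H 0 1 * sw H) ^ (k + 1)) v) = ξ (ρ (sw H) v) := by
    intro k hk
    rw [Finset.mem_range] at hk
    have h03 := mat_five_col H (k + 1) (Finset.mem_Icc.2 ⟨by omega, by omega⟩)
    rcases cells H ((su H 0 1 * sw H) ^ (k + 1)) with ⟨-, h⟩ | ⟨a, b, c, d, t, hg, h⟩
    · rw [h] at h03
      exact absurd h03 zero_ne_one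
    · rw [h, inv_eq_one] at h03
      obtain rfl : t = 1 := by
        refine Units.ext (H.eq_one_of_pow_succ ?_)
        rw [pow_succ, ← theta_apply H, h03]
      rw [hg, eval_cell H hv hχ hξ, h1, one_mul]
  rw [Finset.sum_congr rfl hk, Finset.sum_const, Finset.card_range, nsmul_eq_mul, Nat.cast_ofNat,
    H.four, zero_mul, zero_add] at hs
  exact hs

theorem eval_borel (hfpf : FPF ρ) (hv : ∀ a b, ρ (su H a b) v = v)
    (hχ : ∀ t, ρ (sh H t) v = χ t • v) (hξ : ∀ a b u, ξ (ρ (su H a b) u) = ξ u) (h1 : χ 1 = 1)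
    {g : Sz F e} (hg : g ∈ borel H) : ξ (ρ g v) = 0 := by
  obtain ⟨a, b, t, rfl⟩ := hg
  rw [rep_mul, hχ, map_smul, hv, map_smul, eval_one H hfpf hv hχ hξ h1, smul_zero]

/-- A covector vanishing at the opposite translate vanishes on every translate. -/
theorem eval_eq_zero (hfpf : FPF ρ) (hv : ∀ a b, ρ (su H a b) v = v)
    (hχ : ∀ t, ρ (sh H t) v = χ t • v) (hξ : ∀ a b u, ξ (ρ (su H a b) u) = ξ u) (h1 : χ 1 = 1)
    (hw : ξ (ρ (sw H) v) = 0) (g : Sz F e) : ξ (ρ g v) = 0 := by
  rcases cells H g with ⟨h, -⟩ | ⟨a, b, c, d, t, rfl, -⟩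
  · exact eval_borel H hfpf hv hχ hξ h1 h
  · rw [eval_cell H hv hχ hξ, hw, mul_zero]

end Orbit

variable {E : Type*} [AddCommGroup E] [Module F E] [Finite E]

omit [Finite E] in
theorem uni_isPGroup : IsPGroup 2 (uni H) := by
  rintro ⟨_, a, b, rfl⟩
  refine ⟨2, Subtype.ext ?_⟩
  simp only [SubmonoidClass.coe_pow, OneMemClass.coe_one]
  rw [show (2 : ℕ) ^ 2 = 2 + 2 from rfl, pow_add, pow_two, su_mul, H.add_self, sz_mul,
    H.add_self]
  exact su_zero H

/-- A nonzero vector fixed by the lower unitriangular subgroup. -/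
theorem exists_fixed [Nontrivial E] (ρ : Representation F (Sz F e) E) :
    ∃ v : E, v ≠ 0 ∧ ∀ a b, ρ (su H a b) v = v := by
  letI : MulAction (uni H) E :=
    { smul := fun g v => ρ (g : Sz F e) v
      one_smul := fun v => rep_one ρ v
      mul_smul := fun g k v => rep_mul ρ g k v }
  haveI : Fact (Nat.Prime 2) := ⟨Nat.prime_two⟩
  have hd : 2 ∣ Nat.card E := by
    haveI := H.charP
    haveI := Fintype.ofFinite F
    obtain ⟨n, -, hn⟩ := FiniteField.card F 2
    rw [Module.natCard_eq_pow_finrank (K := F), Nat.card_eq_fintype_card, hn, ← pow_mul]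
    refine dvd_pow_self 2 (Nat.mul_ne_zero n.ne_zero ?_)
    exact (Module.finrank_pos (R := F) (M := E)).ne'
  obtain ⟨v, hv, hne⟩ := (uni_isPGroup H).exists_fixed_point_of_prime_dvd_card_of_fixed_point E hd
    (a := 0) (fun g => map_zero (ρ (g : Sz F e)))
  exact ⟨v, hne.symm, fun a b => hv ⟨_, a, b, rfl⟩⟩

omit [Finite E] in
theorem fixed_sh {ρ : Representation F (Sz F e) E} {v : E} (hv : ∀ a b, ρ (su H a b) v = v)
    (t : Fˣ) (a b : F) : ρ (su H a b) (ρ (sh H t) v) = ρ (sh H t) v := by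
  rw [← rep_mul, sh_conj, rep_mul, hv]

/-- A fixed weight vector. -/
theorem exists_weight [Nontrivial E] (ρ : Representation F (Sz F e) E) :
    ∃ (v : E) (j : ℕ), v ≠ 0 ∧ (∀ a b, ρ (su H a b) v = v) ∧
      ∀ t : Fˣ, ρ (sh H t) v = (t : F) ^ (j + 1) • v := by
  classical
  haveI := Fintype.ofFinite F
  obtain ⟨v, hv0, hv⟩ := exists_fixed H ρ
  set P : ℕ → E := fun j => ∑ t : Fˣ, ((t⁻¹ : Fˣ) : F) ^ (j + 1) • ρ (sh H t) v with hP
  have hw : ∀ j (s : Fˣ), ρ (sh H s) (P j) = (s : F) ^ (j + 1) • P j := by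
    intro j s
    simp only [hP, map_sum, map_smul, Finset.smul_sum, ← rep_mul, sh_mul]
    refine Fintype.sum_equiv (Equiv.mulLeft s) _ _ fun t => ?_
    rw [Equiv.coe_mulLeft, smul_smul, ← mul_pow]
    simp [mul_left_comm (s : F), s.ne_zero]
  have hf : ∀ j a b, ρ (su H a b) (P j) = P j := fun j a b => by
    simp only [hP, map_sum, map_smul, fixed_sh H hv]
  have hsum : ∑ j ∈ Finset.range (Fintype.card Fˣ), P j = (Fintype.card Fˣ : F) • v := by
    simp only [hP]
    rw [Finset.sum_comm, Finset.sum_eq_single (1 : Fˣ)]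
    · simp [sh_one, Nat.cast_smul_eq_nsmul]
    · intro t _ ht
      rw [← Finset.sum_smul]
      have hx : ((t⁻¹ : Fˣ) : F) ≠ 1 := by simpa using ht
      have hz : ∑ j ∈ Finset.range (Fintype.card Fˣ), ((t⁻¹ : Fˣ) : F) ^ j = 0 := by
        rw [geom_sum_eq hx, ← Units.val_pow_eq_pow_val, pow_card_eq_one, Units.val_one, sub_self,
          zero_div]
      simp_rw [pow_succ, ← Finset.sum_mul, hz, zero_mul, zero_smul]
    · simp
  have hc : (Fintype.card Fˣ : F) ≠ 0 := by
    rw [Fintype.card_units, Nat.cast_sub Fintype.card_pos, FiniteField.cast_card_eq_zero]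
    simp
  obtain ⟨j, -, hj⟩ := Finset.exists_ne_zero_of_sum_ne_zero
    (hsum.trans_ne (smul_ne_zero hc hv0))
  exact ⟨P j, j, hj, hf j, hw j⟩

omit [Finite E] [Finite F] in
theorem dual_fpf [Finite E] {ρ : Representation F (Sz F e) E} (h : FPF ρ) : FPF ρ.dual := by
  intro g hg hg1 f hf
  have hinj : Function.Injective (ρ g⁻¹ - LinearMap.id : E →ₗ[F] E) := by
    rw [injective_iff_map_eq_zero]
    intro x hx
    refine h g⁻¹ (by rwa [orderOf_inv]) (inv_ne_one.2 hg1) x ?_
    simpa [sub_eq_zero] using hx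
  ext x
  obtain ⟨y, rfl⟩ := Finite.surjective_of_injective hinj x
  have := LinearMap.congr_fun hf y
  rw [Representation.dual_apply] at this
  simp only [Module.Dual.transpose_apply, LinearMap.comp_apply] at this
  simp [this]

omit [Finite E] [Finite F] in
theorem dual_eval {ρ : Representation F (Sz F e) E} {ξ : Module.Dual F E}
    (hξ : ∀ a b, ρ.dual (su H a b) ξ = ξ) (a b : F) (u : E) : ξ (ρ (su H a b) u) = ξ u := by
  have h := LinearMap.congr_fun (hξ a b) (ρ (su H a b) u)
  rw [Representation.dual_apply] at h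
  simp only [Module.Dual.transpose_apply, LinearMap.comp_apply, rep_inv_self] at h
  exact h.symm

/-- **Irreducible modules without fixed points are twisted natural modules.** -/
theorem isNat_of_simple {ρ : Representation F (Sz F e) E} (hfpf : FPF ρ) (hs : Simple ρ) :
    IsNat ρ := by
  haveI := hs.nontrivial
  haveI : Finite (Module.Dual F E) := Module.finite_of_finite F
  haveI : Nontrivial (Module.Dual F E) := inferInstance
  obtain ⟨v, j, hv0, hv, hw⟩ := exists_weight H ρ
  obtain ⟨ξ, hξ0, hξd⟩ := exists_fixed H ρ.dual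
  have hξ := dual_eval H hξd
  set χ : Fˣ → F := fun t => (t : F) ^ (j + 1) with hχdef
  have hχ1 : χ 1 = 1 := by simp [hχdef]
  have hspan : Submodule.span F (Set.range fun g => ρ g v) = ⊤ := by
    refine (hs.only _ fun g u hu => ?_).resolve_left ?_
    · have h2 := Submodule.mem_map_of_mem (f := ρ g) hu
      rw [Submodule.map_span] at h2
      refine Submodule.span_mono ?_ h2
      rintro _ ⟨_, ⟨k, rfl⟩, rfl⟩
      exact ⟨g * k, rep_mul ρ g k v⟩
    · intro h
      have hm := Submodule.subset_span (R := F)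
        (show v ∈ Set.range (fun g => ρ g v) from ⟨1, rep_one ρ v⟩)
      rw [h] at hm
      exact hv0 (by simpa using hm)
  have hκ : ξ (ρ (sw H) v) ≠ 0 := fun h0 => hξ0 (LinearMap.ext_on hspan (by
    rintro _ ⟨g, rfl⟩
    exact eval_eq_zero H hfpf hv hw hξ hχ1 h0 g))
  set κ := ξ (ρ (sw H) v)
  set P : F → F := fun y => (y / theta H y) ^ (j + 1) with hPdef
  have hPmul : ∀ x y, P (x * y) = P x * P y := fun x y => by
    simp only [hPdef, map_mul, ← mul_pow, mul_div_mul_comm]
  have hP0 : P 0 = 0 := by simp [hPdef]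
  have hP1 : P 1 = 1 := by simp [hPdef]
  have hval : ∀ g, ξ (ρ g v) = κ * P (mat g 0 3) := by
    intro g
    rcases cells H g with ⟨hg, h⟩ | ⟨a, b, c, d, t, rfl, h⟩
    · rw [eval_borel H hfpf hv hw hξ hχ1 hg, h, hP0, mul_zero]
    · rw [eval_cell H hv hw hξ, h, mul_comm]
      congr 1
      simp only [hPdef]
      congr 1
      rw [map_inv₀, map_mul, theta_theta]
      field_simp
  have hstep : ∀ y, P (y + 1) = P y + 1 := by
    intro y
    obtain ⟨b, rfl⟩ := theta_surjective H y
    have hs := congrArg (fun u => ξ (ρ (sw H * su H 0 b) u)) (hfpf.five_sum H v)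
    obtain ⟨e0, e1, e2, e3', e4⟩ := five_entries H b
    simp only [Finset.sum_range_succ, Finset.sum_range_zero, zero_add, map_add, map_zero, ← rep_mul,
      hval, pow_zero, mul_one, pow_one, e0, e1, e2, e3', e4, hP1] at hs
    have h5 : 1 + P (theta H b + 1) + P (theta H b + b + 1) + P (theta H b + b + 1) +
        P (theta H b) = 0 := by
      refine (mul_eq_zero.1 ?_).resolve_left hκ
      linear_combination hs
    linear_combination h5 - (1 + P (theta H b + b + 1) + P (theta H b)) * H.two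
  let π : F →+* F :=
    { toFun := P
      map_one' := hP1
      map_mul' := hPmul
      map_zero' := hP0
      map_add' := fun x y => by
        by_cases hy : y = 0
        · simp [hy, hP0]
        · have h1 : x + y = y * (x / y + 1) := by field_simp
          rw [h1, hPmul, hstep, mul_add, mul_one, ← hPmul, mul_div_cancel₀ x hy] }
  let Φ : E →ₗ[F] (Sz F e → F) :=
    { toFun := fun u x => ξ (ρ x u)
      map_add' := fun a b => funext fun x => by simp
      map_smul' := fun c a => funext fun x => by simp }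
  let Ψ : (Fin 4 → F) →ₗ[F] (Sz F e → F) :=
    { toFun := fun c x => nat4 π x c 0
      map_add' := fun a b => funext fun x => by simp
      map_smul' := fun c a => funext fun x => by simp }
  have hΦg : ∀ g u x, Φ (ρ g u) x = Φ u (x * g) := fun g u x => by
    simp [Φ, map_mul]
  have hΨg : ∀ g c x, Ψ (nat4 π g c) x = Ψ c (x * g) := fun g c x => by
    simp [Ψ, map_mul]
  have hgen : ∀ g, Φ (ρ g v) = κ • Ψ (nat4 π g e3) := fun g => funext fun x => by
    rw [Pi.smul_apply, hΦg, hΨg, smul_eq_mul]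
    show ξ (ρ (x * g) v) = κ * nat4 π (x * g) e3 0
    rw [hval, nat4_apply]
    simp [e3, π, Matrix.mulVec, dotProduct, Fin.sum_univ_four]
  have hΦ : Function.Injective Φ := by
    rw [← LinearMap.ker_eq_bot]
    refine (hs.only _ fun g u hu => ?_).resolve_right fun h => hκ ?_
    · rw [LinearMap.mem_ker] at hu ⊢
      funext x
      rw [hΦg, hu]
      rfl
    · exact congrFun (show Φ v = 0 by rw [← LinearMap.mem_ker, h]; trivial) (sw H)
  have hΨ : Function.Injective Ψ := by
    rw [injective_iff_map_eq_zero]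
    by_contra h
    push Not at h
    obtain ⟨c, hc, hc0⟩ := h
    have htop := nat4_irreducible H π (LinearMap.ker Ψ).toAddSubgroup (fun g u hu => by
      rw [Submodule.mem_toAddSubgroup, LinearMap.mem_ker] at hu ⊢
      funext x
      rw [hΨg, hu]
      rfl) (fun hb => hc0 (by
      have : c ∈ (LinearMap.ker Ψ).toAddSubgroup := hc
      rw [hb] at this
      simpa using this))
    have : e3 ∈ (LinearMap.ker Ψ).toAddSubgroup := htop ▸ AddSubgroup.mem_top _
    have h2 := congrFun (show Ψ e3 = 0 from this) (sw H)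
    simp [Ψ, nat4_sw, e3] at h2
  have hrange : LinearMap.range Φ = LinearMap.range Ψ := by
    refine le_antisymm ?_ ?_
    · rw [LinearMap.range_eq_map, ← hspan, Submodule.map_span_le]
      rintro _ ⟨g, rfl⟩
      exact ⟨κ • nat4 π g e3, by rw [map_smul, hgen]⟩
    · rintro _ ⟨c, rfl⟩
      have htop := nat4_irreducible H π ((LinearMap.range Φ).comap Ψ).toAddSubgroup
        (fun g u hu => by
          obtain ⟨u', hu'⟩ := hu
          exact ⟨ρ g u', funext fun x => by rw [hΦg, hu', hΨg]⟩)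
        (fun hb => by
          have : e3 ∈ ((LinearMap.range Φ).comap Ψ).toAddSubgroup :=
            ⟨κ⁻¹ • v, by rw [map_smul, ← rep_one ρ v, hgen, rep_one, inv_smul_smul₀ hκ]⟩
          rw [hb] at this
          simpa [e3] using congrFun (AddSubgroup.mem_bot.1 this) 3)
      exact (htop ▸ AddSubgroup.mem_top c : c ∈ ((LinearMap.range Φ).comap Ψ).toAddSubgroup)
  let L : E ≃ₗ[F] (Fin 4 → F) := (LinearEquiv.ofInjective Φ hΦ).trans
    ((LinearEquiv.ofEq _ _ hrange).trans (LinearEquiv.ofInjective Ψ hΨ).symm)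
  have hL : ∀ u, Ψ (L u) = Φ u := fun u => by
    simp [L, LinearEquiv.ofInjective_symm_apply]
  refine ⟨π, L, fun g u => hΨ (funext fun x => ?_)⟩
  rw [hL, hΨg, hΦg, hL]

end CfsgLib.Recog.SzModule
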