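import Cfsg.Agent.Lib.KnownA.Suzuki.Facts

/-!
Modules in characteristic two for a Suzuki group on which the elements of odd order act without
fixed points: the natural modules and some identities between field homomorphisms.
-/

set_option autoImplicit false
set_option linter.style.haveILetI false

namespace CfsgLib.Recog.SzModule

open Matrix Cfsg.Lie CfsgLib.KnownA.Suzuki

universe v

variable {F : Type*} [Field F] {e : ℕ}

/-- `x ↦ x ^ e` as a ring homomorphism. -/
def theta (H : TitsField F e) : F →+* F where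
  toFun x := x ^ e
  map_one' := one_pow e
  map_mul' a b := mul_pow a b e
  map_zero' := zero_pow H.e_ne
  map_add' := H.add_pow

theorem theta_apply (H : TitsField F e) (x : F) : theta H x = x ^ e := rfl

theorem theta_theta (H : TitsField F e) (x : F) : theta H (theta H x) = x ^ 2 := H.sq x

theorem theta_surjective (H : TitsField F e) [Finite F] : Function.Surjective (theta H) :=
  Finite.surjective_of_injective (theta H).injective

theorem theta_ne_sq (H : TitsField F e) {s : F} (h0 : s ≠ 0) (h1 : s ≠ 1) : theta H s ≠ s ^ 2 := by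
  intro h
  have h2 := theta_theta H s
  rw [h, map_pow, h] at h2
  have h3 : s ^ 2 = s := H.sq_inj h2
  exact h1 (mul_right_cancel₀ h0 (by rw [← sq, h3, one_mul]))

theorem theta_ne_self (H : TitsField F e) {s : F} (h0 : s ≠ 0) (h1 : s ≠ 1) : theta H s ≠ s := by
  intro h
  have h2 := theta_theta H s
  rw [h, h] at h2
  exact h1 (mul_right_cancel₀ h0 (by rw [← sq, ← h2, one_mul]))

theorem exists_zero_one_ne [Finite F] (h8 : 8 ≤ Nat.card F) (u : F) :
    ∃ s : F, s ≠ 0 ∧ s ≠ 1 ∧ s ≠ u ∧ s ≠ u + 1 := by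
  classical
  haveI := Fintype.ofFinite F
  obtain ⟨s, hs⟩ : ∃ s, s ∉ ({0, 1, u, u + 1} : Finset F) := by
    by_contra h
    push Not at h
    have h5 : Fintype.card F ≤ ({0, 1, u, u + 1} : Finset F).card :=
      Finset.card_le_card fun x _ => h x
    have := Finset.card_le_four (a := (0 : F)) (b := 1) (c := u) (d := u + 1)
    rw [Nat.card_eq_fintype_card] at h8
    omega
  simp only [Finset.mem_insert, Finset.mem_singleton, not_or] at hs
  exact ⟨s, hs⟩

theorem exists_ne_zero_one [Finite F] (h8 : 8 ≤ Nat.card F) : ∃ s : F, s ≠ 0 ∧ s ≠ 1 :=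
  let ⟨s, h0, h1, _⟩ := exists_zero_one_ne h8 0
  ⟨s, h0, h1⟩

theorem exists_unit_lam (H : TitsField F e) [Finite F] {y : F} (hy : y ≠ 0) :
    ∃ t : Fˣ, theta H (t : F) * t = y := by
  obtain ⟨t, ht⟩ := (Finite.surjective_of_injective (f := fun t : Fˣ => t ^ (e + 1)) fun a b hab => by
    have h : ((a / b : Fˣ) : F) ^ (e + 1) = 1 := by
      rw [← Units.val_pow_eq_pow_val, div_pow, show a ^ (e + 1) = b ^ (e + 1) from hab, div_self',
        Units.val_one]
    exact div_eq_one.1 (Units.ext (by rw [H.eq_one_of_pow_succ h, Units.val_one]))) (Units.mk0 y hy)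
  exact ⟨t, by simpa [theta_apply, pow_succ] using congrArg Units.val ht⟩

section Homs

variable {K : Type*} [Field K] (σ τ χ π : F →+* K)

theorem hom_mul_eq_one (H : TitsField F e) [Finite F] (h8 : 8 ≤ Nat.card F)
    (h : ∀ s : F, s ≠ 0 → σ s * τ s = 1) : False := by
  have hroot : ∀ s : F, s ≠ 0 → s ≠ 1 → s ^ 2 + s + 1 = 0 := by
    intro s h0 h1
    have h2 : s + 1 ≠ 0 := fun hs => h1 (H.eq_of_add hs)
    have e1 := h s h0
    have e2 := h _ h2
    rw [map_add, map_add, map_one, map_one] at e2
    apply τ.injective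
    rw [map_add, map_add, map_pow, map_one, map_zero]
    linear_combination τ s * e2 - (τ s + 1) * e1
  obtain ⟨u, hu0, hu1⟩ := exists_ne_zero_one h8
  obtain ⟨s, hs0, hs1, hsu, hsu1⟩ := exists_zero_one_ne h8 u
  have := hroot u hu0 hu1
  have := hroot s hs0 hs1
  have h3 : (s + u) * (s + u + 1) = 0 := by
    linear_combination hroot s hs0 hs1 - hroot u hu0 hu1 + (s * u + u ^ 2 + u) * H.two
  rcases mul_eq_zero.1 h3 with h4 | h4
  · exact hsu (H.eq_of_add h4)
  · exact hsu1 (H.eq_of_add (by linear_combination h4))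

theorem hom_mul_eq_hom (h : ∀ s : F, σ s * τ s = χ s) (s : F) : σ s + τ s = 0 := by
  have e1 := h s
  have e2 := h (s + 1)
  rw [map_add, map_add, map_add, map_one, map_one, map_one] at e2
  linear_combination e2 - e1

theorem hom_pair (h : ∀ s : F, σ s * τ s = χ s * π s) :
    (∀ s, σ s = χ s ∧ τ s = π s) ∨ (∀ s, σ s = π s ∧ τ s = χ s) := by
  have hs : ∀ s, σ s + τ s = χ s + π s := fun s => by
    have e2 := h (s + 1)
    rw [map_add, map_add, map_add, map_add, map_one, map_one, map_one, map_one] at e2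
    linear_combination e2 - h s
  have hcase : ∀ s, σ s = χ s ∨ σ s = π s := fun s => by
    have : (σ s - χ s) * (σ s - π s) = 0 := by linear_combination σ s * hs s - h s
    rcases mul_eq_zero.1 this with h1 | h1
    · exact Or.inl (sub_eq_zero.1 h1)
    · exact Or.inr (sub_eq_zero.1 h1)
  by_cases hall : ∀ s, σ s = χ s
  · exact Or.inl fun s => ⟨hall s, by linear_combination hs s - hall s⟩
  push Not at hall
  obtain ⟨a, ha⟩ := hall
  refine Or.inr fun s => ?_
  have hsπ : σ s = π s := by
    rcases hcase s with h1 | h1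
    · rcases hcase (s + a) with h2 | h2
      · rw [map_add, map_add] at h2
        exact absurd (by linear_combination h2 - h1) ha
      · rw [map_add, map_add] at h2
        linear_combination h2 - (hcase a).resolve_left ha
    · exact h1
  exact ⟨hsπ, by linear_combination hs s - hsπ⟩

/-- `b`, `θ b` and `b ^ 2` are independent. -/
theorem homs_independent (H : TitsField F e) [Finite F] (h8 : 8 ≤ Nat.card F) {c0 c1 c2 : K}
    (h : ∀ b : F, c0 * σ b + c1 * σ (theta H b) + c2 * σ b ^ 2 = 0) : c0 = 0 := by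
  obtain ⟨s, hs0, hs1⟩ := exists_ne_zero_one h8
  have h1 : ∀ b : F,
      c0 * (σ s - σ (theta H s)) * σ b + c2 * (σ s ^ 2 - σ (theta H s)) * σ b ^ 2 = 0 := by
    intro b
    have e1 := h (s * b)
    rw [map_mul, map_mul, map_mul] at e1
    linear_combination e1 - σ (theta H s) * h b
  have e2 := h1 s
  have e3 := h1 1
  rw [map_one] at e3
  have h4 : c0 * (σ s - σ (theta H s)) * (σ s - σ s ^ 2) = 0 := by
    linear_combination e2 - σ s ^ 2 * e3
  rcases mul_eq_zero.1 h4 with h5 | h5
  · exact (mul_eq_zero.1 h5).resolve_right fun e =>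
      theta_ne_self H hs0 hs1 (σ.injective (sub_eq_zero.1 e)).symm
  · rw [sub_eq_zero, ← map_pow] at h5
    exact absurd (mul_right_cancel₀ hs0 (by rw [← sq, ← σ.injective h5, one_mul])) hs1

end Homs

/-- The natural module twisted by a field endomorphism. -/
def nat4 (φ : F →+* F) : Representation F (Sz F e) (Fin 4 → F) where
  toFun g := ((mat g).map φ).mulVecLin
  map_one' := by
    rw [mat_one, Matrix.map_one φ (map_zero φ) (map_one φ), Matrix.mulVecLin_one]
    rfl
  map_mul' g k := by
    rw [mat_mul, Matrix.map_mul, Matrix.mulVecLin_mul]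
    rfl

theorem nat4_apply (φ : F →+* F) (g : Sz F e) (v : Fin 4 → F) :
    nat4 φ g v = (mat g).map φ *ᵥ v := rfl

variable (H : TitsField F e)

theorem nat4_su (φ : F →+* F) (a b : F) (v : Fin 4 → F) :
    nat4 φ (su H a b) v = ![v 0, φ a * v 0 + v 1, φ b * v 0 + φ (theta H a) * v 1 + v 2,
      φ (theta H a * a ^ 2 + a * b + theta H b) * v 0 + φ (b + theta H a * a) * v 1 + φ a * v 2 +
        v 3] := by
  rw [nat4_apply]
  funext i
  fin_cases i <;>
    simp [mat, su, uGL, uMat, fv, theta_apply, Matrix.mulVec, dotProduct, Fin.sum_univ_four,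
      pow_add]

theorem nat4_sh (φ : F →+* F) (t : Fˣ) (v : Fin 4 → F) :
    nat4 φ (sh H t) v = ![φ (theta H (t : F) * t) * v 0, φ (t : F) * v 1, (φ (t : F))⁻¹ * v 2,
      (φ (theta H (t : F) * t))⁻¹ * v 3] := by
  rw [nat4_apply]
  funext i
  fin_cases i <;>
    simp [mat, sh, hGL, hMat, theta_apply, Matrix.mulVec, dotProduct, Fin.sum_univ_four,
      pow_succ]

theorem nat4_sw (φ : F →+* F) (v : Fin 4 → F) :
    nat4 φ (sw H) v = ![v 3, v 2, v 1, v 0] := by
  rw [nat4_apply]
  funext i
  fin_cases i <;> simp [mat, sw, wGL, wMat, Matrix.mulVec, dotProduct, Fin.sum_univ_four]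

/-- The unit vector `e₃`, fixed by the lower unitriangular subgroup. -/
def e3 : Fin 4 → F := ![0, 0, 0, 1]

theorem nat4_su_e3 (φ : F →+* F) (a b : F) : nat4 φ (su H a b) (e3 : Fin 4 → F) = e3 := by
  rw [nat4_su]
  funext i
  fin_cases i <;> simp [e3]

theorem nat4_sh_e3 (φ : F →+* F) (t : Fˣ) :
    nat4 φ (sh H t) (e3 : Fin 4 → F) = (φ (theta H (t : F) * t))⁻¹ • e3 := by
  rw [nat4_sh]
  funext i
  fin_cases i <;> simp [e3]

/-! ### Invariant subspaces and the hypothesis -/

section Reps

variable {G E : Type*} [Group G] [AddCommGroup E] [Module F E]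

/-- An invariant subspace. -/
def Inv (ρ : Representation F G E) (P : Submodule F E) : Prop := ∀ g, ∀ v ∈ P, ρ g v ∈ P

/-- An irreducible representation. -/
structure Simple (ρ : Representation F G E) : Prop where
  nontrivial : Nontrivial E
  only : ∀ P, Inv ρ P → P = ⊥ ∨ P = ⊤

/-- Nontrivial elements of odd order fix only zero. -/
def FPF (ρ : Representation F G E) : Prop :=
  ∀ g, Odd (orderOf g) → g ≠ 1 → ∀ v, ρ g v = v → v = 0

theorem rep_mul (ρ : Representation F G E) (g k : G) (v : E) : ρ (g * k) v = ρ g (ρ k v) := by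
  rw [map_mul]
  rfl

theorem rep_one (ρ : Representation F G E) (v : E) : ρ 1 v = v := by
  rw [map_one]
  rfl

theorem rep_inv_self (ρ : Representation F G E) (g : G) (v : E) : ρ g⁻¹ (ρ g v) = v := by
  rw [← rep_mul, inv_mul_cancel, rep_one]

/-- The representation on an invariant subspace. -/
def sub (ρ : Representation F G E) {P : Submodule F E} (hP : Inv ρ P) : Representation F G P where
  toFun g := (ρ g).restrict (hP g)
  map_one' := LinearMap.ext fun v => Subtype.ext (rep_one ρ v)
  map_mul' g k := LinearMap.ext fun v => Subtype.ext (rep_mul ρ g k v)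

theorem sub_apply (ρ : Representation F G E) {P : Submodule F E} (hP : Inv ρ P) (g : G) (v : P) :
    (sub ρ hP g v : E) = ρ g v := rfl

theorem FPF.sub {ρ : Representation F G E} (h : FPF ρ) {P : Submodule F E} (hP : Inv ρ P) :
    FPF (SzModule.sub ρ hP) := fun g hg hg1 v hv =>
  Subtype.ext (h g hg hg1 v (congrArg Subtype.val hv))

/-- The representation on a quotient by an invariant subspace. -/
def quo (ρ : Representation F G E) {P : Submodule F E} (hP : Inv ρ P) :
    Representation F G (E ⧸ P) where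
  toFun g := P.mapQ P (ρ g) (hP g)
  map_one' := Submodule.linearMap_qext _ (LinearMap.ext fun v => by simp)
  map_mul' g k := Submodule.linearMap_qext _ (LinearMap.ext fun v => by simp)

theorem quo_mk (ρ : Representation F G E) {P : Submodule F E} (hP : Inv ρ P) (g : G) (v : E) :
    quo ρ hP g (Submodule.Quotient.mk v) = Submodule.Quotient.mk (ρ g v) := rfl

theorem FPF.quo [CharP F 2] {ρ : Representation F G E} (h : FPF ρ) {P : Submodule F E}
    (hP : Inv ρ P) : FPF (SzModule.quo ρ hP) := by
  intro g hg hg1 q hq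
  obtain ⟨v, rfl⟩ := Submodule.Quotient.mk_surjective P q
  rw [quo_mk] at hq
  have hmem : ∀ k, ρ (g ^ k) v - v ∈ P := by
    intro k
    induction k with
    | zero => simp
    | succ k ih =>
      have h1 : ρ g (ρ (g ^ k) v - v) ∈ P := hP g _ ih
      have h2 : ρ g v - v ∈ P := (Submodule.Quotient.eq P).1 hq
      have h3 := P.add_mem h1 h2
      rw [map_sub, ← rep_mul, ← pow_succ'] at h3
      simpa using h3
  set n := orderOf g
  set w := ∑ k ∈ Finset.range n, ρ (g ^ k) v with hw
  have hfix : ρ g w = w := by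
    have e1 := Finset.sum_range_succ (fun k => ρ (g ^ k) v) n
    rw [Finset.sum_range_succ', pow_orderOf_eq_one, pow_zero, add_left_inj] at e1
    rw [hw, map_sum, ← e1]
    exact Finset.sum_congr rfl fun k _ => by rw [← rep_mul, ← pow_succ']
  have hw0 := h g hg hg1 w hfix
  have hsum : w - (n : F) • v ∈ P := by
    have : w - (n : F) • v = ∑ k ∈ Finset.range n, (ρ (g ^ k) v - v) := by
      rw [Finset.sum_sub_distrib, Finset.sum_const, Finset.card_range, Nat.cast_smul_eq_nsmul]
    rw [this]
    exact P.sum_mem fun k _ => hmem k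
  have hn : (n : F) = 1 := by
    obtain ⟨r, hr⟩ := hg
    rw [show n = 2 * r + 1 from hr]
    simp [CharTwo.two_eq_zero]
  rw [hw0, hn, one_smul, zero_sub, P.neg_mem_iff] at hsum
  exact (Submodule.Quotient.mk_eq_zero P).2 hsum

end Reps

/-- `ρ` is a twisted natural module. -/
def IsNat {E : Type*} [AddCommGroup E] [Module F E] (ρ : Representation F (Sz F e) E) : Prop :=
  ∃ (φ : F →+* F) (L : E ≃ₗ[F] (Fin 4 → F)), ∀ g v, L (ρ g v) = nat4 φ g (L v)

/-! ### The element of order five -/

theorem mat_five :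
    mat (su H 0 1 * sw H) = !![0, 0, 0, 1; 0, 0, 1, 0; 0, 1, 0, 1; 1, 0, 1, 1] := by
  ext i j
  fin_cases i <;> fin_cases j <;>
    simp [mat, su, sw, uGL, wGL, uMat, wMat, fv, H.e_ne, Matrix.mul_apply, Fin.sum_univ_four]

theorem mat_five_two :
    mat ((su H 0 1 * sw H) ^ 2) = !![1, 0, 1, 1; 0, 1, 0, 1; 1, 0, 0, 1; 1, 1, 1, 1] := by
  rw [pow_two, mat_mul, mat_five H]
  ext i j
  fin_cases i <;> fin_cases j <;>
    simp [Matrix.mul_apply, Fin.sum_univ_four] <;> linear_combination H.two

theorem mat_five_col :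
    ∀ k ∈ Finset.Icc 1 4, mat ((su H 0 1 * sw H) ^ k) 0 3 = 1 := by
  intro k hk
  rw [Finset.mem_Icc] at hk
  obtain ⟨h1, h4⟩ := hk
  interval_cases k
  · rw [pow_one, mat_five H]; simp
  · rw [mat_five_two H]; simp
  · rw [pow_succ, mat_mul, mat_five_two H, mat_five H]
    simp [Matrix.mul_apply, Fin.sum_univ_four]
    linear_combination H.two
  · rw [show (su H (0 : F) 1 * sw H) ^ 4 = (su H 0 1 * sw H) ^ 2 * (su H 0 1 * sw H) ^ 2 from
      pow_add _ 2 2, mat_mul, mat_five_two H]
    simp [Matrix.mul_apply, Fin.sum_univ_four]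
    linear_combination H.two

theorem five_pow : (su H (0 : F) 1 * sw H) ^ 5 = 1 := by
  apply mat_ext
  rw [pow_succ, show (su H (0 : F) 1 * sw H) ^ 4 = (su H 0 1 * sw H) ^ 2 * (su H 0 1 * sw H) ^ 2 from
    pow_add _ 2 2, mat_mul, mat_mul, mat_five_two H, mat_five H, mat_one]
  have h6 : (6 : F) = 0 := by linear_combination (3 : F) * H.two
  ext i j
  fin_cases i <;> fin_cases j <;>
    simp [Matrix.mul_apply, Fin.sum_univ_four] <;> ring_nf <;>
    simp [H.two, H.four, h6, show (8 : F) = 0 by linear_combination (4 : F) * H.two,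
      show (9 : F) = 1 by linear_combination (4 : F) * H.two]

theorem five_ne : su H (0 : F) 1 * sw H ≠ 1 := by
  intro h
  have := congrFun (congrFun (congrArg mat h) 0) 0
  rw [mat_five H, mat_one] at this
  simp at this

theorem five_odd : Odd (orderOf (su H (0 : F) 1 * sw H)) := by
  haveI : Fact (Nat.Prime 5) := ⟨by norm_num⟩
  rw [orderOf_eq_prime (five_pow H) (five_ne H)]
  decide

theorem FPF.five_sum {E : Type*} [AddCommGroup E] [Module F E]
    {ρ : Representation F (Sz F e) E} (h : FPF ρ) (v : E) :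
    ∑ k ∈ Finset.range 5, ρ ((su H 0 1 * sw H) ^ k) v = 0 := by
  refine h _ (five_odd H) (five_ne H) _ ?_
  have e1 := Finset.sum_range_succ (fun k => ρ ((su H 0 1 * sw H) ^ k) v) 5
  rw [Finset.sum_range_succ', five_pow H, pow_zero, add_left_inj] at e1
  rw [map_sum]
  conv_rhs => rw [← e1]
  exact Finset.sum_congr rfl fun k _ => by rw [← rep_mul, ← pow_succ']

end CfsgLib.Recog.SzModule
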