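import Cfsg.Agent.Lib.Recog.SzModule.Ext

/-!
Elementary abelian groups acted on by a Suzuki group without fixed points of odd order: those with a
unique minimal invariant subgroup are natural modules.
-/

set_option autoImplicit false
set_option linter.unusedSectionVars false
set_option linter.style.haveILetI false

namespace CfsgLib.Recog.SzModule

open Matrix Cfsg.Lie CfsgLib.KnownA.Suzuki

universe u

variable {F : Type*} [Field F] [Finite F] {e : ℕ} (H : TitsField F e) (h8 : 8 ≤ Nat.card F)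
include H h8

/-- Twisted natural submodules separate the points of the dual space. -/
theorem exists_natural_aux : ∀ (n : ℕ) {E : Type u} [AddCommGroup E] [Module F E] [Finite E]
    (ρ : Representation F (Sz F e) E), Nat.card E = n → FPF ρ → ∀ Λ : E →ₗ[F] F, Λ ≠ 0 →
    ∃ (P : Submodule F E) (hP : Inv ρ P), IsNat (sub ρ hP) ∧ ∃ v ∈ P, Λ v ≠ 0 := by
  intro n
  induction n using Nat.strong_induction_on with
  | _ n ih =>
  intro E _ _ _ ρ hn hfpf Λ hΛ
  haveI : Nontrivial E := by
    rcases subsingleton_or_nontrivial E with h | h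
    · exact absurd (LinearMap.ext fun x => by rw [Subsingleton.elim x 0, map_zero, map_zero]) hΛ
    · exact h
  obtain ⟨A, ⟨hA, hA0⟩, hmin⟩ := (wellFounded_lt (α := Submodule F E)).has_min
    {P | Inv ρ P ∧ P ≠ ⊥} ⟨⊤, fun _ _ _ => trivial, top_ne_bot⟩
  have hsA : Simple (sub ρ hA) := by
    refine ⟨Submodule.nontrivial_iff_ne_bot.2 hA0, fun P hP => ?_⟩
    by_cases h : P = ⊥
    · exact Or.inl h
    refine Or.inr (eq_top_iff.2 fun x _ => ?_)
    have hmap : Inv ρ (P.map A.subtype) := by
      rintro g _ ⟨y, hy, rfl⟩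
      exact ⟨_, hP g y hy, rfl⟩
    have hne : P.map A.subtype ≠ ⊥ := fun hb =>
      h (Submodule.map_injective_of_injective A.injective_subtype (by rw [hb, Submodule.map_bot]))
    obtain ⟨y, hy, hyx⟩ := ((eq_of_le_of_not_lt (Submodule.map_subtype_le A P) (hmin _ ⟨hmap, hne⟩)).ge x.2)
    rwa [← Subtype.ext hyx]
  by_cases hex : ∃ v ∈ A, Λ v ≠ 0
  · exact ⟨A, hA, isNat_of_simple H (hfpf.sub hA) hsA, hex⟩
  push Not at hex
  obtain ⟨ψ, LA, hLA⟩ := isNat_of_simple H (hfpf.sub hA) hsA
  have hker : A ≤ LinearMap.ker Λ := fun v hv => hex v hv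
  haveI : Finite (E ⧸ A) := Finite.of_surjective _ (Submodule.Quotient.mk_surjective A)
  have hlt : Nat.card (E ⧸ A) < n := by
    haveI := hsA.nontrivial
    rw [← hn, Submodule.card_eq_card_quotient_mul_card A]
    exact lt_mul_of_one_lt_left Nat.card_pos Finite.one_lt_card
  haveI := H.charP
  obtain ⟨B, hB, ⟨φ, LB, hLB⟩, q, hqB, hq⟩ := ih _ hlt (quo ρ hA) rfl (hfpf.quo hA)
    (A.liftQ Λ hker) (fun h => hΛ (LinearMap.ext fun x => by
      simpa using LinearMap.congr_fun h (Submodule.Quotient.mk x)))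
  set E1 := B.comap A.mkQ with hE1def
  have hE1 : Inv ρ E1 := fun g v hv => hB g _ hv
  have hAE : A ≤ E1 := fun v hv => by
    rw [hE1def, Submodule.mem_comap, Submodule.mkQ_apply, (Submodule.Quotient.mk_eq_zero A).2 hv]
    exact B.zero_mem
  let i : (Fin 4 → F) →ₗ[F] E1 := Submodule.inclusion hAE ∘ₗ LA.symm.toLinearMap
  let p : E1 →ₗ[F] (Fin 4 → F) := LB.toLinearMap ∘ₗ (A.mkQ.restrict (fun v hv => hv))
  have hi : Function.Injective i :=
    (Submodule.inclusion_injective hAE).comp LA.symm.injective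
  have hp : Function.Surjective p := by
    refine LB.surjective.comp fun b => ?_
    obtain ⟨v, hv⟩ := Submodule.Quotient.mk_surjective A (b : E ⧸ A)
    exact ⟨⟨v, by rw [hE1def, Submodule.mem_comap, Submodule.mkQ_apply, hv]; exact b.2⟩,
      Subtype.ext hv⟩
  have hexact : LinearMap.range i = LinearMap.ker p := by
    refine le_antisymm ?_ ?_
    · rintro _ ⟨c, rfl⟩
      rw [LinearMap.mem_ker]
      refine LB.map_eq_zero_iff.2 (Subtype.ext ?_)
      exact (Submodule.Quotient.mk_eq_zero A).2 (LA.symm c).2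
    · intro v hv
      have h := congrArg Subtype.val (LB.map_eq_zero_iff.1 (LinearMap.mem_ker.1 hv))
      refine ⟨LA ⟨v, (Submodule.Quotient.mk_eq_zero A).1 h⟩, Subtype.ext ?_⟩
      simp [i]
  have hie : ∀ g v, i (nat4 ψ g v) = sub ρ hE1 g (i v) := fun g v => Subtype.ext (by
    have h := congrArg LA.symm (hLA g (LA.symm v))
    rw [LinearEquiv.symm_apply_apply, LinearEquiv.apply_symm_apply] at h
    simp only [i, LinearMap.comp_apply, LinearEquiv.coe_coe, sub_apply, Submodule.coe_inclusion,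
      ← h])
  have hpe : ∀ g v, p (sub ρ hE1 g v) = nat4 φ g (p v) := fun g v => by
    simp only [p, LinearMap.comp_apply, LinearEquiv.coe_coe]
    rw [← hLB]
    exact congrArg LB (Subtype.ext rfl)
  obtain ⟨C, hC, hcompl⟩ :=
    exists_complement H h8 (hfpf.sub hE1) i p hi hp hexact hie hpe
  have hbij : Function.Bijective (p ∘ₗ C.subtype) := by
    refine ⟨?_, fun c => ?_⟩
    · rw [injective_iff_map_eq_zero]
      intro x hx
      have h : (x : E1) ∈ LinearMap.range i ⊓ C := ⟨hexact ▸ LinearMap.mem_ker.2 hx, x.2⟩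
      rw [hcompl.inf_eq_bot, Submodule.mem_bot] at h
      exact Subtype.ext h
    · obtain ⟨u, rfl⟩ := hp c
      obtain ⟨a, ha, x, hx, rfl⟩ :=
        Submodule.mem_sup.1 (hcompl.sup_eq_top ▸ Submodule.mem_top (x := u))
      refine ⟨⟨x, hx⟩, ?_⟩
      rw [hexact, LinearMap.mem_ker] at ha
      simp [ha]
  set P := C.map E1.subtype
  have hP : Inv ρ P := by
    rintro g _ ⟨y, hy, rfl⟩
    exact ⟨_, hC g y hy, rfl⟩
  let LP : P ≃ₗ[F] (Fin 4 → F) := (Submodule.equivMapOfInjective _ E1.injective_subtype C).symm.trans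
    (LinearEquiv.ofBijective _ hbij)
  refine ⟨P, hP, ⟨φ, LP, fun g v => ?_⟩, ?_⟩
  · obtain ⟨c, rfl⟩ := (Submodule.equivMapOfInjective _ E1.injective_subtype C).surjective v
    have : sub ρ hP g (Submodule.equivMapOfInjective _ E1.injective_subtype C c) =
        Submodule.equivMapOfInjective _ E1.injective_subtype C
          ⟨sub ρ hE1 g c.1, hC g _ c.2⟩ := Subtype.ext rfl
    simp only [LP, LinearEquiv.trans_apply, this, LinearEquiv.symm_apply_apply,
      LinearEquiv.ofBijective_apply, LinearMap.comp_apply, Submodule.coe_subtype]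
    exact hpe g _
  · obtain ⟨v, hv⟩ := Submodule.Quotient.mk_surjective A q
    have hvE : v ∈ E1 := by rw [hE1def, Submodule.mem_comap, Submodule.mkQ_apply, hv]; exact hqB
    obtain ⟨a, ⟨c, rfl⟩, x, hx, hax⟩ :=
      Submodule.mem_sup.1 (hcompl.sup_eq_top ▸ Submodule.mem_top (x := (⟨v, hvE⟩ : E1)))
    refine ⟨x, ⟨x, hx, rfl⟩, ?_⟩
    have h1 := congrArg (fun y : E1 => Λ (y : E)) hax
    have h2 : Λ ((i c : E1) : E) = 0 := hex _ (LA.symm c).2
    simp only [Submodule.coe_add, map_add, h2, zero_add] at h1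
    rw [h1]
    rw [← hv] at hq
    simpa using hq

/-- **Monolithic modules are natural.** -/
theorem nat_of_monolith {M : Type*} [AddCommGroup M] [Finite M] (h2 : ∀ x : M, x + x = 0)
    (τ : Sz F e →* AddMonoid.End M)
    (hfpf : ∀ g : Sz F e, Odd (orderOf g) → g ≠ 1 → ∀ v, τ g v = v → v = 0)
    {U : AddSubgroup M} (hU : U ≠ ⊥)
    (hmon : ∀ P : AddSubgroup M, P ≠ ⊥ → (∀ g, ∀ v ∈ P, τ g v ∈ P) → U ≤ P) :
    ∃ L : M ≃+ (Fin 4 → F), ∀ g v, L (τ g v) = nat4 (RingHom.id F) g (L v) := by
  have hτ : ∀ g k v, τ (g * k) v = τ g (τ k v) := fun g k v => by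
    rw [map_mul]
    rfl
  have hτ1 : ∀ v, τ 1 v = v := fun v => by
    rw [map_one]
    rfl
  haveI : Finite (M →+ F) := Finite.of_injective _ DFunLike.coe_injective
  let ρ : Representation F (Sz F e) (M →+ F) :=
    { toFun := fun g =>
        { toFun := fun f => f.comp (τ g⁻¹ : M →+ M)
          map_add' := fun a b => AddMonoidHom.ext fun x => rfl
          map_smul' := fun c a => AddMonoidHom.ext fun x => rfl }
      map_one' := LinearMap.ext fun f => AddMonoidHom.ext fun x => by
        show f (τ 1⁻¹ x) = f x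
        rw [inv_one, hτ1]
      map_mul' := fun g k => LinearMap.ext fun f => AddMonoidHom.ext fun x => by
        show f (τ (g * k)⁻¹ x) = f (τ k⁻¹ (τ g⁻¹ x))
        rw [_root_.mul_inv_rev, hτ] }
  have hfpfρ : FPF ρ := by
    intro g hg hg1 f hf
    let D : M →+ M := AddMonoidHom.mk' (fun x => τ g⁻¹ x - x) fun a b => by
      rw [map_add]; abel
    have hinj : Function.Injective D := by
      rw [injective_iff_map_eq_zero]
      intro x hx
      refine hfpf g⁻¹ (by rwa [orderOf_inv]) (inv_ne_one.2 hg1) x ?_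
      simpa [D, sub_eq_zero] using hx
    refine AddMonoidHom.ext fun x => ?_
    obtain ⟨y, rfl⟩ := Finite.surjective_of_injective hinj x
    have h := DFunLike.congr_fun hf y
    change f (τ g⁻¹ y) = f y at h
    simp [D, h]
  obtain ⟨m, hmU, hm⟩ := U.bot_or_exists_ne_zero.resolve_left hU
  obtain ⟨f, hf⟩ : ∃ f : M →+ F, f m ≠ 0 := by
    haveI := H.charP
    haveI : Fact (Nat.Prime 2) := ⟨Nat.prime_two⟩
    letI : Module (ZMod 2) M := AddCommGroup.zmodModule fun x => by rw [two_nsmul, h2]
    obtain ⟨f, hf⟩ := not_forall.1 fun h => hm ((Module.forall_dual_apply_eq_zero_iff (ZMod 2) m).1 h)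
    exact ⟨(ZMod.castHom (dvd_refl 2) F).toAddMonoidHom.comp f.toAddMonoidHom, fun h0 =>
      hf ((ZMod.castHom (dvd_refl 2) F).injective (by rw [map_zero]; exact h0))⟩
  let Λ : (M →+ F) →ₗ[F] F :=
    { toFun := fun f => f m
      map_add' := fun a b => rfl
      map_smul' := fun c a => rfl }
  obtain ⟨P, hP, ⟨π, L, hL⟩, v, hvP, hv⟩ := exists_natural_aux H h8 _ ρ rfl hfpfρ Λ
    (fun h => hf (LinearMap.congr_fun h f))
  let J := LinearEquiv.ofBijective (altDual (F := F)) altDual_bijective
  have hJ : ∀ c, J c = altDual c := fun c => rfl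
  let ev : M →+ Module.Dual F (Fin 4 → F) :=
    AddMonoidHom.mk' (fun x =>
      { toFun := fun c => (L.symm c : M →+ F) x
        map_add' := fun a b => by simp
        map_smul' := fun c a => by simp }) fun x y => LinearMap.ext fun c => by simp
  let c : M →+ (Fin 4 → F) := J.symm.toLinearMap.toAddMonoidHom.comp ev
  have hc : ∀ g x, c (τ g x) = nat4 π g (c x) := by
    intro g x
    refine J.injective (LinearMap.ext fun z => ?_)
    rw [hJ (nat4 π g _), altDual_nat H, ← hJ]
    simp only [c, AddMonoidHom.comp_apply, LinearMap.toAddMonoidHom_coe, LinearEquiv.coe_coe,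
      LinearEquiv.apply_symm_apply]
    have h := hL g⁻¹ (L.symm z)
    rw [LinearEquiv.apply_symm_apply] at h
    show (L.symm z : M →+ F) (τ g x) = (L.symm (nat4 π g⁻¹ z) : M →+ F) x
    rw [← h, LinearEquiv.symm_apply_apply, sub_apply]
    show _ = (L.symm z : M →+ F) (τ g⁻¹⁻¹ x)
    rw [inv_inv]
  have hcm : c m ≠ 0 := by
    intro h
    refine hv ?_
    have h1 : ev m = 0 := by
      have := congrArg J h
      simpa [c] using this
    show v m = 0
    simpa [ev] using LinearMap.congr_fun h1 (L ⟨v, hvP⟩)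
  have hinj : Function.Injective c := by
    rw [injective_iff_map_eq_zero]
    by_contra h
    push Not at h
    obtain ⟨x, hx, hx0⟩ := h
    have hUker := hmon c.ker (fun hb => hx0 (by
      have : x ∈ c.ker := hx
      rw [hb] at this
      simpa using this)) fun g y hy => by
      rw [AddMonoidHom.mem_ker] at hy ⊢
      rw [hc, hy, map_zero]
    exact hcm (hUker hmU)
  have hsurj : Function.Surjective c := by
    have htop := nat4_irreducible H π c.range (fun g y hy => by
      obtain ⟨x, rfl⟩ := hy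
      exact ⟨τ g x, hc g x⟩) (fun hb => hcm (by
      have : c m ∈ c.range := ⟨m, rfl⟩
      rw [hb] at this
      simpa using this))
    exact fun y => (htop ▸ AddSubgroup.mem_top y : y ∈ c.range)
  let σ : F ≃+* F := RingEquiv.ofBijective π ⟨π.injective, Finite.surjective_of_injective π.injective⟩
  let T : (Fin 4 → F) ≃+ (Fin 4 → F) :=
    (AddEquiv.piCongrRight fun _ : Fin 4 => σ.toAddEquiv)
  refine ⟨(AddEquiv.ofBijective c ⟨hinj, hsurj⟩).trans T.symm, fun g x => T.injective ?_⟩
  have hT : ∀ y : Fin 4 → F, T (nat4 (RingHom.id F) g y) = nat4 π g (T y) := by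
    intro y
    funext k
    rw [nat4_apply, nat4_apply]
    show π (((mat g).map (RingHom.id F) *ᵥ y) k) = ((mat g).map π *ᵥ (π ∘ y)) k
    rw [← RingHom.map_mulVec, RingHom.coe_id, Matrix.map_id]
  simp only [AddEquiv.trans_apply, hT, AddEquiv.apply_symm_apply]
  exact hc g x

end CfsgLib.Recog.SzModule
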