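import Cfsg.Agent.Lib.Recog.SzModule.Classify

/-!
An extension of a twisted natural module by another one without fixed points of odd order splits.
The fixed weight vector of the top lifts to a fixed weight vector; the dual statement then shows that
the translates of the lift form a complement.
-/

set_option autoImplicit false
set_option linter.unusedSectionVars false
set_option linter.style.haveILetI false

namespace CfsgLib.Recog.SzModule

open Matrix Cfsg.Lie CfsgLib.KnownA.Suzuki

variable {F : Type*} [Field F] [Finite F] {e : ℕ} (H : TitsField F e) (h8 : 8 ≤ Nat.card F)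
include H h8

/-- Consequences of commuting unipotent elements. -/
theorem comm_rows (ψ : F →+* F) (G f : F → Fin 4 → F)
    (h : ∀ a b, nat4 ψ (su H a 0) (G b) - G b = nat4 ψ (su H 0 b) (f a) - f a) :
    (∀ b, G b 0 = 0) ∧ (∀ a, f a 0 = 0) ∧ (∀ b, G b 1 = 0) ∧
      ∃ γ : F, (∀ b, G b 2 = γ * ψ b) ∧ ∀ a, f a 1 = γ * ψ a := by
  have h0 : ∀ b, G b 0 = 0 := by
    intro b
    have := congrFun (h 1 b) 1
    simpa [nat4_su] using this
  have h2 : ∀ a b, ψ (theta H a) * G b 1 = ψ b * f a 0 := by
    intro a b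
    have := congrFun (h a b) 2
    simpa [nat4_su, h0] using this
  have h3 : ∀ a b, ψ (theta H a * a) * G b 1 + ψ a * G b 2 =
      ψ (theta H b) * f a 0 + ψ b * f a 1 := by
    intro a b
    have := congrFun (h a b) 3
    simpa [nat4_su, h0] using this
  set η := G 1 1 with hη
  have hf : ∀ a, f a 0 = ψ (theta H a) * η := fun a => by
    simpa using (h2 a 1).symm
  have hG : ∀ b, G b 1 = ψ b * η := fun b => by
    have := h2 1 b
    simpa [hf] using this
  have hη0 : η = 0 := by
    obtain ⟨s, hs0, hs1⟩ := exists_ne_zero_one h8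
    have key : ∀ a b, (ψ (theta H a) - ψ a) * η * ψ (theta H b) +
        (f a 1 - ψ (theta H a * a) * η + ψ a * η - ψ a * f 1 1) * ψ b = 0 := by
      intro a b
      have e1 := h3 a b
      have e2 := h3 1 b
      simp only [hf, hG, map_one, one_mul, mul_one] at e1 e2
      linear_combination ψ a * e2 - e1
    have e3 := key s 1
    have e4 := key s s
    simp only [map_one, mul_one] at e3
    have e5 : (ψ (theta H s) - ψ s) * η * (ψ (theta H s) - ψ s) = 0 := by
      linear_combination e4 - ψ s * e3
    have hne : ψ (theta H s) - ψ s ≠ 0 :=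
      sub_ne_zero.2 fun e => theta_ne_self H hs0 hs1 (ψ.injective e)
    simpa [hne] using e5
  have hg2 : ∀ a b, ψ a * G b 2 = ψ b * f a 1 := fun a b => by
    simpa [hf, hG, hη0] using h3 a b
  refine ⟨h0, fun a => by simp [hf, hη0], fun b => by simp [hG, hη0], f 1 1, fun b => ?_,
    fun a => ?_⟩
  · simpa [mul_comm] using hg2 1 b
  · have e1 := hg2 a 1
    have e2 := hg2 1 1
    simp only [map_one, one_mul] at e1 e2
    rw [← e1, ← e2, mul_comm]

section Extension

variable {E : Type*} [AddCommGroup E] [Module F E] {ρ : Representation F (Sz F e) E}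
  {φ ψ : F →+* F} (i : (Fin 4 → F) →ₗ[F] E) (p : E →ₗ[F] (Fin 4 → F))
  (hi : Function.Injective i) (hp : Function.Surjective p)
  (hex : LinearMap.range i = LinearMap.ker p)
  (hie : ∀ g v, i (nat4 ψ g v) = ρ g (i v)) (hpe : ∀ g v, p (ρ g v) = nat4 φ g (p v))
include hi hp hex hie hpe

omit hp in
theorem exists_cocycle {w : E} (hw : p w = e3) :
    ∃ g : F → F → Fin 4 → F, ∀ a b, ρ (su H a b) w = w + i (g a b) := by
  have : ∀ a b, ∃ c, i c = ρ (su H a b) w - w := fun a b => by
    rw [← LinearMap.mem_range, hex, LinearMap.mem_ker, map_sub, hpe, hw, nat4_su_e3, sub_self]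
  choose g hg using this
  exact ⟨g, fun a b => by rw [hg]; abel⟩

/-- The rows of the cocycle of a weight lift. -/
theorem lift_rows {w : E} {g : F → F → Fin 4 → F} (hg : ∀ a b, ρ (su H a b) w = w + i (g a b))
    (hwt : ∀ t : Fˣ, ρ (sh H t) w = (φ (theta H (t : F) * t))⁻¹ • w) :
    (∀ b, g 0 b 0 = 0) ∧ (∀ a, g a 0 0 = 0) ∧ (∀ b, g 0 b 1 = 0) ∧ (∀ b, g 0 b 2 = 0) ∧
    (∀ a, g a 0 1 = 0) ∧
    (∀ a c, g (a + c) 0 2 = g a 0 2 + g c 0 2) ∧
    (∀ a c, g (a + c) 0 3 + g 0 (theta H a * c) 3 = g a 0 3 + g c 0 3 + ψ a * g c 0 2) ∧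
    (∀ b b', g 0 (b + b') 3 = g 0 b 3 + g 0 b' 3) ∧
    (∀ (t : Fˣ) a b, ψ (theta H (t : F) * t) * g a b 3 =
      φ (theta H (t : F) * t) * g (theta H (t : F) * a) (theta H (t : F) * (t : F) ^ 2 * b) 3) := by
  have hcomp : ∀ a b c d, g (a + c) (b + d + theta H a * c) =
      g a b + nat4 ψ (su H a b) (g c d) := by
    intro a b c d
    refine hi (add_left_cancel (a := w) ?_)
    rw [← hg, theta_apply, ← su_mul, rep_mul, hg, map_add, hg, map_add, hie, ← add_assoc]
  have hsu : ∀ (a b : F), g (a + 0) (b + 0 + theta H a * 0) = g a b := fun a b => by simp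
  have hc : ∀ a b, nat4 ψ (su H a 0) (g 0 b) - g 0 b = nat4 ψ (su H 0 b) (g a 0) - g a 0 := by
    intro a b
    have e1 := hcomp a 0 0 b
    have e2 := hcomp 0 b a 0
    simp only [add_zero, zero_add, mul_zero, map_zero, zero_mul] at e1 e2
    rw [e2] at e1
    linear_combination (norm := abel) -e1
  obtain ⟨h0, h0', h1, γ, h2, h1'⟩ := comm_rows H h8 ψ (fun b => g 0 b) (fun a => g a 0) hc
  have hhom : ∀ (t : Fˣ) a b, nat4 ψ (sh H t⁻¹) (g a b) = φ (theta H (t : F) * t) •
      g (theta H (t : F) * a) (theta H (t : F) * (t : F) ^ 2 * b) := by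
    intro t a b
    refine hi ?_
    have e1 : ρ (sh H t⁻¹) (ρ (su H a b) w - w) = φ (theta H (t : F) * t) •
        (ρ (su H (theta H (t : F) * a) (theta H (t : F) * (t : F) ^ 2 * b)) w - w) := by
      rw [map_sub, ← rep_mul, sh_mul_su, rep_mul, hwt, map_smul, smul_sub, inv_inv, ← theta_apply H,
        pow_add, ← theta_apply H]
      simp [mul_comm]
    rw [hg, hg, add_sub_cancel_left, add_sub_cancel_left] at e1
    rw [hie, e1, map_smul]
  have hγ : γ = 0 := by
    by_contra hγ
    refine hom_mul_eq_one ψ φ H h8 fun s hs => ?_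
    obtain ⟨t, rfl⟩ := exists_unit_lam H hs
    have e1 := congrFun (hhom t 0 1) 2
    rw [nat4_sh, mul_zero, Pi.smul_apply, smul_eq_mul] at e1
    simp only [Units.val_inv_eq_inv_val, map_inv₀, inv_inv, Matrix.cons_val, h2, map_one,
      mul_one] at e1
    have ht : ψ (t : F) ≠ 0 := by simp
    refine mul_left_cancel₀ (mul_ne_zero ht hγ) ?_
    rw [map_mul, map_mul] at e1 ⊢
    rw [map_pow] at e1
    linear_combination -e1
  subst hγ
  simp only [zero_mul] at h2 h1'
  refine ⟨h0, h0', h1, h2, h1', fun a c => ?_, fun a c => ?_, fun b b' => ?_, fun t a b => ?_⟩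
  · have e1 := congrFun (hcomp a 0 c 0) 2
    have e2 := congrFun (hcomp (a + c) 0 0 (theta H a * c)) 2
    simp only [add_zero, zero_add, mul_zero] at e1 e2
    rw [e2] at e1
    simpa [nat4_su, h0, h1, h2, h0', h1'] using e1
  · have e1 := congrFun (hcomp a 0 c 0) 3
    have e2 := congrFun (hcomp (a + c) 0 0 (theta H a * c)) 3
    simp only [add_zero, zero_add, mul_zero] at e1 e2
    rw [e2] at e1
    simpa [nat4_su, h0, h1, h2, h0', h1', add_comm, add_left_comm, add_assoc] using e1
  · have e1 := congrFun (hcomp 0 b 0 b') 3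
    simpa [nat4_su, h0, h1, h2] using e1
  · have e1 := congrFun (hhom t a b) 3
    rw [nat4_sh, Pi.smul_apply, smul_eq_mul] at e1
    simp at e1
    rw [map_mul, map_mul]
    linear_combination e1

/-- The bottom row on the centre is homogeneous. -/
theorem lift_centre {w : E} {g : F → F → Fin 4 → F} (hg : ∀ a b, ρ (su H a b) w = w + i (g a b))
    (hwt : ∀ t : Fˣ, ρ (sh H t) w = (φ (theta H (t : F) * t))⁻¹ • w) {s : F} (hs : s ≠ 0)
    (b : F) : ψ s * g 0 b 3 = φ s * g 0 (theta H s * b) 3 := by
  obtain ⟨t, rfl⟩ := exists_unit_lam H hs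
  have := (lift_rows H h8 i p hi hp hex hie hpe hg hwt).2.2.2.2.2.2.2.2 t 0 b
  rw [mul_zero] at this
  rw [this, map_mul (theta H), theta_theta, mul_comm ((t : F) ^ 2)]

omit hp in
/-- A weight lift. -/
theorem exists_weight_lift (hp' : Function.Surjective p) : ∃ w : E, p w = e3 ∧
    ∀ t : Fˣ, ρ (sh H t) w = (φ (theta H (t : F) * t))⁻¹ • w := by
  classical
  haveI := Fintype.ofFinite F
  obtain ⟨x, hx⟩ := hp' e3
  refine ⟨∑ t : Fˣ, φ (theta H (t : F) * t) • ρ (sh H t) x, ?_, fun s => ?_⟩
  · rw [map_sum]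
    have : ∀ t : Fˣ, p (φ (theta H (t : F) * t) • ρ (sh H t) x) = e3 := fun t => by
      rw [map_smul, hpe, hx, nat4_sh_e3, smul_inv_smul₀]
      simp
    simp only [this, Finset.sum_const, Finset.card_univ, Fintype.card_units]
    rw [← Nat.cast_smul_eq_nsmul F, Nat.cast_sub Fintype.card_pos,
      FiniteField.cast_card_eq_zero, Nat.cast_one, zero_sub, H.neg_eq, one_smul]
  · rw [map_sum, Finset.smul_sum]
    refine Fintype.sum_equiv (Equiv.mulLeft s) _ _ fun t => ?_
    have hs0 : φ (theta H (s : F) * s) ≠ 0 := by simp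
    rw [map_smul, ← rep_mul, sh_mul, Equiv.coe_mulLeft, smul_smul]
    congr 1
    field_simp
    simp
    ring

/-- The fixed weight vector of the top lifts. -/
theorem exists_fixed_lift : ∃ w : E, p w = e3 ∧ (∀ a b, ρ (su H a b) w = w) ∧
    ∀ t : Fˣ, ρ (sh H t) w = (φ (theta H (t : F) * t))⁻¹ • w := by
  haveI := H.charP
  obtain ⟨s₀, hs0, hs1⟩ := exists_ne_zero_one h8
  -- A weight lift on which the bottom row of the centre vanishes.
  obtain ⟨w, g, hw, hwt, hg, hK⟩ : ∃ (w : E) (g : F → F → Fin 4 → F), p w = e3 ∧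
      (∀ t : Fˣ, ρ (sh H t) w = (φ (theta H (t : F) * t))⁻¹ • w) ∧
      (∀ a b, ρ (su H a b) w = w + i (g a b)) ∧ g 0 1 3 = 0 := by
    obtain ⟨w, hw, hwt⟩ := exists_weight_lift H h8 i p hi hex hie hpe hp
    obtain ⟨g, hg⟩ := exists_cocycle H h8 i p hi hex hie hpe hw
    by_cases hK : g 0 1 3 = 0
    · exact ⟨w, g, hw, hwt, hg, hK⟩
    obtain ⟨h0, h0', h1, h2, h1', hf2, hf3, hKadd, -⟩ := lift_rows H h8 i p hi hp hex hie hpe hg hwt
    have hKh := @lift_centre _ _ _ _ H h8 _ _ _ _ _ _ i p hi hp hex hie hpe w g hg hwt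
    set K1 := g 0 1 3 with hK1
    let κ : F →+* F :=
      { toFun := fun b => g 0 b 3 / K1
        map_one' := div_self hK
        map_mul' := fun x y => by
          by_cases hx : x = 0
          · have := hKadd 0 0
            simp only [add_zero, left_eq_add] at this
            simp [hx, this]
          · obtain ⟨s, rfl⟩ := theta_surjective H x
            have hs : s ≠ 0 := by rintro rfl; exact hx (map_zero _)
            have e1 := hKh hs 1
            rw [mul_one] at e1
            have hφs : φ s ≠ 0 := by simpa using hs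
            field_simp
            refine mul_left_cancel₀ hφs ?_
            linear_combination g 0 y 3 * e1 - K1 * hKh hs y
        map_zero' := by
          have := hKadd 0 0
          simp only [add_zero, left_eq_add] at this
          simp [this]
        map_add' := fun x y => by rw [hKadd, add_div] }
    have hK' : ∀ b, g 0 b 3 = K1 * κ b := fun b => by
      simp only [κ, RingHom.coe_mk, MonoidHom.coe_mk, OneHom.coe_mk]
      field_simp
    have hmul : ∀ s : F, (κ.comp (theta H)) s * φ s = ψ s := by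
      intro s
      by_cases hs : s = 0
      · simp [hs]
      · have e1 := hKh hs 1
        rw [mul_one, hK' (theta H s)] at e1
        refine mul_left_cancel₀ hK ?_
        simp only [RingHom.comp_apply]
        linear_combination -e1
    have hκθ : ∀ s, κ (theta H s) = φ s := fun s =>
      H.eq_of_add (hom_mul_eq_hom (κ.comp (theta H)) φ ψ hmul s)
    have hψ : ∀ s, ψ s = φ s ^ 2 := fun s => by
      rw [← hmul s, RingHom.comp_apply, hκθ, sq]
    have hf2' : ∀ a, φ a * g a 0 2 = K1 * κ a := by
      intro a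
      have e1 := hf3 a a
      have h00 : g (0 : F) 0 3 = 0 := by
        have := hKadd 0 0
        simpa using this
      rw [CharTwo.add_self_eq_zero, h00, zero_add, CharTwo.add_self_eq_zero, zero_add, hK',
        map_mul, hκθ, hψ, sq] at e1
      by_cases ha : a = 0
      · simp [ha]
      · refine mul_left_cancel₀ (show φ a ≠ 0 by simpa using ha) ?_
        linear_combination -e1
    have hκsq : ∀ a, κ a = φ a ^ 2 := by
      intro a
      by_cases ha : a = 0
      · simp [ha]
      have e1 := hf2' (a + 1)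
      have e4 := hf2' 1
      rw [hf2, map_add, map_add, map_one, map_one] at e1
      rw [map_one, map_one, one_mul] at e4
      refine mul_left_cancel₀ hK (H.eq_of_add ?_)
      linear_combination φ a * e1 - (φ a + 1) * hf2' a - (φ a * (φ a + 1)) * e4
    have hθsq : ∀ a, theta H (a ^ 2) = a := by
      intro a
      apply φ.injective
      rw [map_pow (theta H), map_pow φ, ← hκsq, hκθ]
    have h7 : ∀ t : Fˣ, φ (t : F) ^ 2 = (φ (theta H (t : F) * t))⁻¹ := by
      intro t
      have h4 : theta H (t : F) = (t : F) ^ 4 := by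
        have := congrArg (theta H) (hθsq t)
        rw [theta_theta] at this
        rw [← this]
        ring
      have h87 : (t : F) ^ 7 = 1 := by
        have := hθsq t
        rw [map_pow, h4] at this
        refine mul_left_cancel₀ t.ne_zero ?_
        linear_combination this
      refine eq_inv_of_mul_eq_one_left ?_
      rw [← map_pow, ← map_mul, h4, show (t : F) ^ 2 * ((t : F) ^ 4 * t) = (t : F) ^ 7 by ring, h87,
        map_one]
    refine ⟨w + i ![0, K1, 0, 0], fun a b => g a b + (nat4 ψ (su H a b) ![0, K1, 0, 0] -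
      ![0, K1, 0, 0]), ?_, fun t => ?_, fun a b => ?_, ?_⟩
    · have : p (i ![0, K1, 0, 0]) = 0 := by
        rw [← LinearMap.mem_ker, ← hex]
        exact LinearMap.mem_range_self i _
      rw [map_add, this, add_zero, hw]
    · rw [map_add, hwt, ← hie, smul_add, ← map_smul, nat4_sh]
      congr 2
      funext j
      fin_cases j <;> simp [hψ, h7]
    · rw [map_add, hg, ← hie, map_add i, map_sub]
      abel
    · simp [nat4_su, ← hK1, CharTwo.add_self_eq_zero]
  obtain ⟨h0, h0', h1, h2, h1', hf2, hf3, hKadd, hhom⟩ := lift_rows H h8 i p hi hp hex hie hpe hg hwt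
  have hKh := @lift_centre _ _ _ _ H h8 _ _ _ _ _ _ i p hi hp hex hie hpe w g hg hwt
  have hK0 : ∀ b, g 0 b 3 = 0 := by
    intro b
    by_cases hb : b = 0
    · have := hKadd 0 0
      subst hb
      simpa using this
    obtain ⟨s, rfl⟩ := theta_surjective H b
    have hs : s ≠ 0 := by rintro rfl; exact hb (map_zero _)
    have e1 := hKh hs 1
    rw [hK, mul_one, mul_zero] at e1
    exact (mul_eq_zero.1 e1.symm).resolve_left (by simpa using hs)
  have hf20 : ∀ a, g a 0 2 = 0 := by
    intro a
    have e1 := hf3 a a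
    rw [hK0, add_zero, CharTwo.add_self_eq_zero, hK0, CharTwo.add_self_eq_zero, zero_add] at e1
    by_cases ha : a = 0
    · have := hf2 0 0
      subst ha
      simpa using this
    · exact (mul_eq_zero.1 e1.symm).resolve_left (by simpa using ha)
  have hadd : ∀ a c, g (a + c) 0 3 = g a 0 3 + g c 0 3 := fun a c => by
    simpa [hK0, hf20] using hf3 a c
  have hf30 : ∀ a, g a 0 3 = 0 := by
    by_contra hne
    push Not at hne
    obtain ⟨a₀, ha₀⟩ := hne
    set η := g 1 0 3 with hη
    have hs' : ∀ (t : Fˣ) a, ψ (theta H (t : F) * t) * g a 0 3 =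
        φ (theta H (t : F) * t) * g (theta H (t : F) * a) 0 3 := fun t a => by
      simpa using hhom t a 0
    have hη0 : η ≠ 0 := by
      intro h
      refine ha₀ ?_
      by_cases ha : a₀ = 0
      · have := hadd 0 0
        subst ha
        simpa using this
      obtain ⟨t, rfl⟩ := theta_surjective H a₀
      have ht : t ≠ 0 := by rintro rfl; exact ha (map_zero _)
      have e1 := hs' (Units.mk0 t ht) 1
      rw [← hη, h, mul_zero, mul_one, Units.val_mk0] at e1
      exact (mul_eq_zero.1 e1.symm).resolve_left (by simp [ht])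
    let ν : F →+* F :=
      { toFun := fun a => g a 0 3 / η
        map_one' := div_self hη0
        map_mul' := fun x y => by
          by_cases hx : x = 0
          · have := hadd 0 0
            simp only [add_zero, left_eq_add] at this
            simp [hx, this]
          · obtain ⟨t, rfl⟩ := theta_surjective H x
            have ht : t ≠ 0 := by rintro rfl; exact hx (map_zero _)
            have e1 := hs' (Units.mk0 t ht) 1
            have e2 := hs' (Units.mk0 t ht) y
            rw [Units.val_mk0, mul_one, ← hη] at e1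
            rw [Units.val_mk0] at e2
            field_simp
            refine mul_left_cancel₀ (show φ (theta H t * t) ≠ 0 by simp [ht]) ?_
            linear_combination g y 0 3 * e1 - η * e2
        map_zero' := by
          have := hadd 0 0
          simp only [add_zero, left_eq_add] at this
          simp [this]
        map_add' := fun x y => by rw [hadd, add_div] }
    have hν : ∀ a, g a 0 3 = η * ν a := fun a => by
      simp only [ν, RingHom.coe_mk, MonoidHom.coe_mk, OneHom.coe_mk]
      field_simp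
    have hpair : ∀ s : F, (ν.comp (frobenius F 2)) s * φ s = ψ s * (ν.comp (theta H)) s := by
      intro s
      by_cases hs : s = 0
      · simp [hs]
      obtain ⟨t, rfl⟩ := exists_unit_lam H hs
      have e1 := hs' t 1
      rw [mul_one, ← hη, hν (theta H (t : F))] at e1
      simp only [RingHom.comp_apply, frobenius_def]
      rw [map_mul (theta H), theta_theta, mul_pow, map_mul ν, map_mul ν, map_pow ν, map_pow ν]
      refine mul_left_cancel₀ hη0 ?_
      linear_combination -(ν (t : F) ^ 2 * ν (theta H (t : F))) * e1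
    rcases hom_pair _ _ _ _ hpair with hq | hq
    swap
    · have := (hq s₀).1
      simp only [RingHom.comp_apply, frobenius_def] at this
      exact theta_ne_sq H hs0 hs1 (ν.injective this).symm
    have hνθ : ∀ s, φ s = ν (theta H s) := fun s => (hq s).2
    have hψθ : ∀ s, ψ s = φ (theta H s) := fun s => by
      rw [hνθ, theta_theta]
      exact (hq s).1.symm
    obtain ⟨x2, hx2⟩ := hp ![0, 0, 1, 0]
    obtain ⟨x1, hx1⟩ := hp ![0, 1, 0, 0]
    have hlift : ∀ u : E, p u = 0 → ∃ c, i c = u := fun u hu => by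
      rw [← LinearMap.mem_ker, ← hex] at hu
      exact hu
    choose f2 hf2 using fun a => hlift (ρ (su H a 0) x2 - x2 - φ a • w) (by
      rw [map_sub, map_sub, map_smul, hpe, hx2, hw, nat4_su]
      funext j
      fin_cases j <;> simp [e3])
    choose G2 hG2 using fun b => hlift (ρ (su H 0 b) x2 - x2) (by
      rw [map_sub, hpe, hx2, nat4_su]
      funext j
      fin_cases j <;> simp)
    choose f1 hf1 using fun a => hlift
      (ρ (su H a 0) x1 - x1 - φ (theta H a) • x2 - φ (theta H a * a) • w) (by
      rw [map_sub, map_sub, map_sub, map_smul, map_smul, hpe, hx1, hx2, hw, nat4_su]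
      funext j
      fin_cases j <;> simp [e3])
    choose G1 hG1 using fun b => hlift (ρ (su H 0 b) x1 - x1 - φ b • w) (by
      rw [map_sub, map_sub, map_smul, hpe, hx1, hw, nat4_su]
      funext j
      fin_cases j <;> simp [e3])
    have hcm : ∀ a b (x : E), ρ (su H a 0) (ρ (su H 0 b) x) = ρ (su H 0 b) (ρ (su H a 0) x) :=
      fun a b x => by
        rw [← rep_mul, ← rep_mul, su_mul, su_mul]
        simp [H.e_ne]
    have hgb : ∀ b, g 0 b = 0 := fun b => by
      funext j
      fin_cases j <;> simp [h0, h1, h2, hK0]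
    have hU2 : ∀ a, ρ (su H a 0) x2 = x2 + φ a • w + i (f2 a) := fun a => by rw [hf2]; abel
    have hZ2 : ∀ b, ρ (su H 0 b) x2 = x2 + i (G2 b) := fun b => by rw [hG2]; abel
    have hU1 : ∀ a, ρ (su H a 0) x1 =
        x1 + φ (theta H a) • x2 + φ (theta H a * a) • w + i (f1 a) := fun a => by rw [hf1]; abel
    have hZ1 : ∀ b, ρ (su H 0 b) x1 = x1 + φ b • w + i (G1 b) := fun b => by rw [hG1]; abel
    have hZw : ∀ b, ρ (su H 0 b) w = w := fun b => by rw [hg, hgb, map_zero, add_zero]
    obtain ⟨h20, -, h21, γ, h22, -⟩ := comm_rows H h8 ψ G2 f2 fun a b => by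
      refine hi ?_
      have e1 := hcm a b x2
      rw [hZ2, hU2, map_add, map_add, map_add, map_smul, hU2, hZ2, hZw, ← hie, ← hie] at e1
      rw [map_sub, map_sub]
      linear_combination (norm := abel) e1
    have h1eq : ∀ a b, φ b • g a 0 + (nat4 ψ (su H a 0) (G1 b) - G1 b) =
        φ (theta H a) • G2 b + (nat4 ψ (su H 0 b) (f1 a) - f1 a) := by
      intro a b
      refine hi ?_
      have e1 := hcm a b x1
      rw [hZ1, hU1, map_add, map_add, map_add, map_add, map_add, map_smul, map_smul, map_smul,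
        hU1, hg, hZ1, hZ2, hZw, ← hie, ← hie, smul_add, smul_add] at e1
      simp only [map_add, map_sub, map_smul]
      linear_combination (norm := abel) e1
    have h10 : ∀ b, G1 b 0 = 0 := fun b => by
      have := congrFun (h1eq 1 b) 1
      simpa [nat4_su, h1', h21, Matrix.vecHead, Matrix.vecTail] using this
    have h11 : ∀ b, G1 b 1 = ψ b * (γ + f1 1 0) := fun b => by
      have := congrFun (h1eq 1 b) 2
      simp [nat4_su, hf20, h10, h22, Matrix.vecHead, Matrix.vecTail] at this
      linear_combination this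
    set c := γ + f1 1 0 with hc
    have h13 : ∀ a b, η * ν a * φ b + ψ (theta H a * a) * (ψ b * c) + ψ a * G1 b 2 =
        ψ a * G2 b 3 + φ b ^ 2 * f1 a 0 + ψ b * f1 a 1 := by
      intro a b
      have := congrFun (h1eq a b) 3
      have hb : ψ (theta H b) = φ b ^ 2 := by rw [hψθ, theta_theta, map_pow]
      simp [nat4_su, hν a, h10, h11, hb, ← hψθ a, Matrix.vecHead, Matrix.vecTail] at this
      rw [map_mul]
      linear_combination this
    have hkey : ∀ b, η * (ν s₀ - ψ s₀) * φ b +
        (ψ (theta H s₀ * s₀) * c - ψ s₀ * c - f1 s₀ 1 + ψ s₀ * f1 1 1) * φ (theta H b) +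
        (ψ s₀ * f1 1 0 - f1 s₀ 0) * φ b ^ 2 = 0 := by
      intro b
      have e1 := h13 s₀ b
      have e2 := h13 1 b
      simp only [map_one, one_mul, mul_one] at e2
      rw [← hψθ]
      linear_combination e1 - ψ s₀ * e2
    have hne : ν s₀ - ψ s₀ ≠ 0 := by
      rw [sub_ne_zero, hψθ, hνθ, theta_theta]
      intro h
      exact hs1 (mul_right_cancel₀ hs0 (by rw [← sq, ← ν.injective h, one_mul]))
    exact mul_ne_zero hη0 hne (homs_independent φ H h8 hkey)
  have hga : ∀ a, g a 0 = 0 := fun a => by
    funext j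
    fin_cases j <;> simp [h0', h1', hf20, hf30]
  have hgb : ∀ b, g 0 b = 0 := fun b => by
    funext j
    fin_cases j <;> simp [h0, h1, h2, hK0]
  refine ⟨w, hw, fun a b => ?_, hwt⟩
  have : su H a b = su H a 0 * su H 0 b := by rw [su_mul]; simp
  rw [this, rep_mul, hg 0 b, hgb, map_zero, add_zero, hg, hga, map_zero, add_zero]

end Extension

/-! ### Self-duality and splitting -/

omit h8 in
theorem altForm4_nat (φ : F →+* F) (g : Sz F e) (u v : Fin 4 → F) :
    altForm4 (nat4 φ g u) (nat4 φ g v) = altForm4 u v := by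
  have hφ : Function.Surjective φ := Finite.surjective_of_injective φ.injective
  obtain ⟨u, rfl⟩ := Function.Surjective.comp_left (α := Fin 4) hφ u
  obtain ⟨v, rfl⟩ := Function.Surjective.comp_left (α := Fin 4) hφ v
  have hm : ∀ x : Fin 4 → F, nat4 φ g (φ ∘ x) = φ ∘ (mat g *ᵥ x) := fun x => by
    funext k
    exact (RingHom.map_mulVec φ (mat g) x k).symm
  rw [hm, hm]
  have h := (mem_eqs H g).1 u v
  simp only [altForm4, Function.comp_apply, ← map_mul, ← map_add]
  exact congrArg φ h

omit H h8 in
/-- The form as a map to the dual space. -/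
def altDual : (Fin 4 → F) →ₗ[F] Module.Dual F (Fin 4 → F) :=
  LinearMap.mk₂ F altForm4 (fun a b c => by simp [altForm4]; ring)
    (fun r a c => by simp [altForm4]; ring) (fun a b c => by simp [altForm4]; ring)
    (fun r a c => by simp [altForm4]; ring)

omit H h8 in
theorem altDual_bijective : Function.Bijective (altDual (F := F)) := by
  have hinj : Function.Injective (altDual (F := F)) := by
    rw [injective_iff_map_eq_zero]
    intro c hc
    funext k
    have := fun x => LinearMap.congr_fun hc x
    fin_cases k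
    · simpa [altDual, altForm4] using this ![0, 0, 0, 1]
    · simpa [altDual, altForm4] using this ![0, 0, 1, 0]
    · simpa [altDual, altForm4] using this ![0, 1, 0, 0]
    · simpa [altDual, altForm4] using this ![1, 0, 0, 0]
  exact ⟨hinj, (LinearMap.injective_iff_surjective_of_finrank_eq_finrank
    (Subspace.dual_finrank_eq).symm).1 hinj⟩

omit h8 in
theorem altDual_nat (φ : F →+* F) (g : Sz F e) (c v : Fin 4 → F) :
    altDual (nat4 φ g c) v = altDual c (nat4 φ g⁻¹ v) := by
  have h := altForm4_nat H φ g c (nat4 φ g⁻¹ v)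
  rw [← rep_mul, mul_inv_cancel, rep_one] at h
  simpa [altDual] using h

variable {E : Type*} [AddCommGroup E] [Module F E] [Finite E] {ρ : Representation F (Sz F e) E}

/-- **Extensions of natural modules without fixed points split.** -/
theorem exists_complement (hfpf : FPF ρ) {φ ψ : F →+* F} (i : (Fin 4 → F) →ₗ[F] E)
    (p : E →ₗ[F] (Fin 4 → F)) (hi : Function.Injective i) (hp : Function.Surjective p)
    (hex : LinearMap.range i = LinearMap.ker p) (hie : ∀ g v, i (nat4 ψ g v) = ρ g (i v))
    (hpe : ∀ g v, p (ρ g v) = nat4 φ g (p v)) :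
    ∃ C, Inv ρ C ∧ IsCompl (LinearMap.range i) C := by
  obtain ⟨w, hw, hwf, hwt⟩ := exists_fixed_lift H h8 i p hi hp hex hie hpe
  have hchi1 : (φ (theta H ((1 : Fˣ) : F) * (1 : Fˣ)))⁻¹ = (1 : F) := by simp
  let J := LinearEquiv.ofBijective (altDual (F := F)) altDual_bijective
  have hJ : ∀ c, J c = altDual c := fun c => rfl
  let i' : (Fin 4 → F) →ₗ[F] Module.Dual F E := p.dualMap ∘ₗ J.toLinearMap
  let p' : Module.Dual F E →ₗ[F] (Fin 4 → F) := J.symm.toLinearMap ∘ₗ i.dualMap
  have hi' : Function.Injective i' :=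
    (LinearMap.dualMap_injective_of_surjective hp).comp J.injective
  have hp' : Function.Surjective p' :=
    J.symm.surjective.comp (LinearMap.dualMap_surjective_of_injective hi)
  have hex' : LinearMap.range i' = LinearMap.ker p' := by
    rw [LinearMap.range_comp_of_range_eq_top _ J.range, LinearEquiv.ker_comp,
      LinearMap.range_dualMap_eq_dualAnnihilator_ker, LinearMap.ker_dualMap_eq_dualAnnihilator_range,
      hex]
  have hie' : ∀ g c, i' (nat4 φ g c) = ρ.dual g (i' c) := fun g c => LinearMap.ext fun v => by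
    simp only [i', LinearMap.comp_apply, LinearEquiv.coe_coe, hJ, LinearMap.dualMap_apply,
      Representation.dual_apply, Module.Dual.transpose_apply]
    rw [altDual_nat H, hpe]
  have hpe' : ∀ g f, p' (ρ.dual g f) = nat4 ψ g (p' f) := fun g f => by
    refine J.injective (LinearMap.ext fun v => ?_)
    rw [hJ (nat4 ψ g _), altDual_nat H, ← hJ]
    simp [p', Representation.dual_apply, Module.Dual.transpose_apply, hie]
  obtain ⟨f, hf, hff, -⟩ := exists_fixed_lift H h8 i' p' hi' hp' hex' hie' hpe'
  have hfi : ∀ v, f (i v) = v 0 := fun v => by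
    have h := congrArg J hf
    rw [show J (p' f) = i.dualMap f from J.apply_symm_apply _] at h
    rw [← LinearMap.dualMap_apply, h, hJ]
    simp [altDual, altForm4, e3]
  set Y := Submodule.span F (Set.range fun g => ρ g w) with hY
  have hYinv : Inv ρ Y := by
    intro g u hu
    have h2 := Submodule.mem_map_of_mem (f := ρ g) hu
    rw [hY, Submodule.map_span] at h2
    refine Submodule.span_mono ?_ h2
    rintro _ ⟨_, ⟨k, rfl⟩, rfl⟩
    exact ⟨g * k, rep_mul ρ g k w⟩
  have hwY : w ∈ Y := Submodule.subset_span ⟨1, rep_one ρ w⟩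
  have hsup : LinearMap.range i ⊔ Y = ⊤ := by
    rw [hex, sup_comm]
    have htop := nat4_irreducible H φ (Y.map p).toAddSubgroup (fun g v hv => by
      obtain ⟨u, hu, rfl⟩ := hv
      exact ⟨ρ g u, hYinv g u hu, hpe g u⟩) (fun hb => by
      have : e3 ∈ (Y.map p).toAddSubgroup := ⟨w, hwY, hw⟩
      rw [hb] at this
      simpa [e3] using congrFun (AddSubgroup.mem_bot.1 this) 3)
    refine eq_top_iff.2 fun u _ => ?_
    obtain ⟨y, hy, hyu⟩ := (htop ▸ AddSubgroup.mem_top (p u) : p u ∈ (Y.map p).toAddSubgroup)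
    refine Submodule.mem_sup.2 ⟨y, hy, u - y, ?_, by abel⟩
    rw [LinearMap.mem_ker, map_sub, hyu, sub_self]
  refine ⟨Y, hYinv, disjoint_iff.2 ?_, codisjoint_iff.2 hsup⟩
  by_contra hne
  have hcom : (Y.comap i).toAddSubgroup = ⊤ := nat4_irreducible H ψ _ (fun g v hv => by
    rw [Submodule.mem_toAddSubgroup, Submodule.mem_comap] at hv ⊢
    rw [hie]
    exact hYinv g _ hv) (fun hb => hne (eq_bot_iff.2 fun u hu => by
      obtain ⟨⟨c, rfl⟩, hcY⟩ := hu
      have : c ∈ (Y.comap i).toAddSubgroup := hcY
      rw [hb, AddSubgroup.mem_bot] at this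
      simp [this]))
  have htop : Y = ⊤ := by
    rw [← hsup]
    refine (sup_eq_right.2 ?_).symm
    rintro _ ⟨c, rfl⟩
    exact (hcom ▸ AddSubgroup.mem_top c : c ∈ (Y.comap i).toAddSubgroup)
  let ξ : E →ₗ[F] F := LinearMap.proj 0 ∘ₗ p
  have hξ : ∀ a b u, ξ (ρ (su H a b) u) = ξ u := fun a b u => by
    simp [ξ, hpe, nat4_su]
  have hξw : ξ (ρ (sw H) w) = 1 := by simp [ξ, hpe, hw, nat4_sw, e3]
  let ζ : E →ₗ[F] F := f - f (ρ (sw H) w) • ξ
  have hζ : ∀ a b u, ζ (ρ (su H a b) u) = ζ u := fun a b u => by
    simp [ζ, hξ, dual_eval H hff a b u]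
  have hζw : ζ (ρ (sw H) w) = 0 := by simp [ζ, hξw]
  have h0 : ζ = 0 := LinearMap.ext_on (htop ▸ hY.symm) (by
    rintro _ ⟨g, rfl⟩
    exact eval_eq_zero H hfpf hwf hwt hζ hchi1 hζw g)
  have h1 := LinearMap.congr_fun h0 (i ![1, 0, 0, 0])
  have hpi : p (i ![1, 0, 0, 0]) = 0 := by
    rw [← LinearMap.mem_ker, ← hex]
    exact LinearMap.mem_range_self i _
  simp [ζ, ξ, hfi, hpi] at h1

end CfsgLib.Recog.SzModule
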