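import Cfsg.Agent.Lib.Recog.SzModule.Classify

/-!
The natural module of a Suzuki group has no lift in which doubling identifies the quotient with the
submodule. The proof evaluates the difference maps of the central elements of the unitriangular
group on the lifts of the last two coordinates.
-/

set_option autoImplicit false
set_option linter.unusedSectionVars false
set_option linter.style.haveILetI false

namespace CfsgLib.Recog.SzModule

open Matrix Cfsg.Lie CfsgLib.KnownA.Suzuki

/-- A lift of the natural module of a Suzuki group on which doubling is the projection followed by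
the injection does not exist. -/
theorem no_free_lift {F : Type*} [Field F] [Finite F] {e : ℕ} (H : TitsField F e)
    (h8 : 8 ≤ Nat.card F) {R : Type*} [AddCommGroup R]
    (τ : Cfsg.Lie.Sz F e →* AddMonoid.End R) (p : R →+ (Fin 4 → F)) (i : (Fin 4 → F) →+ R)
    (hp : Function.Surjective p) (hi : Function.Injective i) (hex : p.ker = i.range)
    (hdouble : ∀ r, i (p r) = r + r)
    (hie : ∀ g v, i (nat4 (RingHom.id F) g v) = τ g (i v))
    (hpe : ∀ g r, p (τ g r) = nat4 (RingHom.id F) g (p r)) : False := by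
  classical
  haveI : CharP F 2 := CharTwo.of_one_ne_zero_of_two_eq_zero one_ne_zero H.two
  have hτmul : ∀ g k r, τ (g * k) r = τ g (τ k r) := fun g k r => by rw [map_mul]; rfl
  have hτone : ∀ r, τ 1 r = r := fun r => by rw [map_one]; rfl
  have hpi : ∀ v, p (i v) = 0 := fun v =>
    AddMonoidHom.mem_ker.1 (hex ▸ ⟨v, rfl⟩ : i v ∈ p.ker)
  have hlift : ∀ y y', p y = p y' → ∃ v, y' = y + i v := fun y y' h => by
    have hmem : y' - y ∈ p.ker := by rw [AddMonoidHom.mem_ker, map_sub, h, sub_self]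
    rw [hex] at hmem
    obtain ⟨v, hv⟩ := hmem
    exact ⟨v, by rw [hv, add_sub_cancel]⟩
  set W : AddSubgroup R :=
    { carrier := {y | p y 0 = 0 ∧ p y 1 = 0}
      zero_mem' := by simp
      add_mem' := fun {a b} ha hb => by simp_all
      neg_mem' := fun {a} ha => by simp_all } with hW
  have hWmem : ∀ {y}, y ∈ W ↔ p y 0 = 0 ∧ p y 1 = 0 := fun {y} => Iff.rfl
  have hWi : ∀ v, i v ∈ W := fun v => by simp [hWmem, hpi]
  set z : F → Sz F e := fun b => su H 0 b with hz
  have hNz : ∀ b v, nat4 (RingHom.id F) (z b) v =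
      ![v 0, v 1, b * v 0 + v 2, theta H b * v 0 + b * v 1 + v 3] := fun b v => by
    rw [hz, nat4_su]
    funext j
    fin_cases j <;> simp
  have hNs : ∀ a v, nat4 (RingHom.id F) (su H a 0) v =
      ![v 0, a * v 0 + v 1, theta H a * v 1 + v 2,
        theta H a * a ^ 2 * v 0 + theta H a * a * v 1 + a * v 2 + v 3] := fun a v => by
    rw [nat4_su]
    funext j
    fin_cases j <;> simp
  have hzmul : ∀ b c, z b * z c = z (b + c) := fun b c => by
    simp [hz, su_mul, zero_pow H.e_ne]
  have hzcomm : ∀ a b, z b * su H a 0 = su H a 0 * z b := fun a b => by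
    simp [hz, su_mul, zero_pow H.e_ne]
  -- the difference maps
  set D : F → R → Fin 4 → F := fun b y => Function.invFun i (τ (z b) y - y) with hD
  have hDi : ∀ b, ∀ y ∈ W, i (D b y) = τ (z b) y - y := by
    intro b y hy
    refine Function.invFun_eq ?_
    have h0 : τ (z b) y - y ∈ p.ker := by
      rw [AddMonoidHom.mem_ker, map_sub, hpe, sub_eq_zero, hNz]
      funext j
      fin_cases j <;> simp [(hWmem.1 hy).1, (hWmem.1 hy).2]
    rw [hex] at h0
    exact h0
  have hτW : ∀ a, ∀ y ∈ W, τ (su H a 0) y ∈ W := fun a y hy => by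
    simp [hWmem, hpe, hNs, (hWmem.1 hy).1, (hWmem.1 hy).2]
  have hDadd : ∀ b, ∀ y ∈ W, ∀ y' ∈ W, D b (y + y') = D b y + D b y' := by
    intro b y hy y' hy'
    apply hi
    rw [map_add i, hDi b _ (W.add_mem hy hy'), hDi b y hy, hDi b y' hy', map_add]
    abel
  have hDiv : ∀ b v, D b (i v) = nat4 (RingHom.id F) (z b) v - v := by
    intro b v
    apply hi
    rw [hDi b _ (hWi v), map_sub, hie]
  have hDs : ∀ a b, ∀ y ∈ W, D b (τ (su H a 0) y) = nat4 (RingHom.id F) (su H a 0) (D b y) := by
    intro a b y hy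
    apply hi
    rw [hDi b _ (hτW a y hy), hie, hDi b y hy, map_sub, ← hτmul, ← hτmul, hzcomm]
  have hDsum : ∀ b c, ∀ y ∈ W, D (b + c) y = D b y + nat4 (RingHom.id F) (z b) (D c y) := by
    intro b c y hy
    apply hi
    rw [map_add, hie, hDi _ y hy, hDi b y hy, hDi c y hy, map_sub, ← hτmul, hzmul]
    abel
  have hD0 : ∀ y ∈ W, D 0 y = 0 := by
    intro y hy
    apply hi
    rw [map_zero, hDi 0 y hy, hz]
    simp [su_zero, hτone]
  have hDrow : ∀ b, ∀ y ∈ W, D b y 0 = 0 ∧ D b y 1 = 0 := by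
    intro b y hy
    rcases eq_or_ne b 0 with rfl | hb
    · simp [hD0 y hy]
    have h := hDsum b b y hy
    rw [CharTwo.add_self_eq_zero, hD0 y hy, hNz] at h
    have h2 := congrFun h 2
    have h3 := congrFun h 3
    simp only [Pi.zero_apply, Pi.add_apply, Matrix.cons_val] at h2 h3
    have e0 : D b y 0 = 0 := by
      have : b * D b y 0 = 0 := by linear_combination -h2 - D b y 2 * H.two
      exact (mul_eq_zero.1 this).resolve_left hb
    refine ⟨e0, ?_⟩
    have : b * D b y 1 = 0 := by
      rw [e0] at h3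
      linear_combination -h3 - D b y 3 * H.two
    exact (mul_eq_zero.1 this).resolve_left hb
  have hDlin : ∀ b c, ∀ y ∈ W, D (b + c) y = D b y + D c y := by
    intro b c y hy
    rw [hDsum b c y hy, hNz]
    congr 1
    funext j
    fin_cases j <;> simp [(hDrow c y hy).1, (hDrow c y hy).2]
  -- invariants of the classes modulo the submodule
  set δ : F → R → F := fun b y => D b y 2 with hδ
  set κ : F → R → F := fun b y => D b y 3 with hκ
  have hδi : ∀ b, ∀ y ∈ W, ∀ v, δ b (y + i v) = δ b y + b * v 0 := fun b y hy v => by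
    simp only [hδ, hDadd b y hy _ (hWi v), hDiv, hNz, Pi.add_apply, Pi.sub_apply, Matrix.cons_val]
    ring
  have hκi : ∀ b, ∀ y ∈ W, ∀ v, κ b (y + i v) = κ b y + (theta H b * v 0 + b * v 1) :=
    fun b y hy v => by
      simp only [hκ, hDadd b y hy _ (hWi v), hDiv, hNz, Pi.add_apply, Pi.sub_apply, Matrix.cons_val]
      ring
  set ε : F → R → F := fun b y => δ b y / b + δ 1 y with hε
  set η : F → R → F := fun b y => κ b y / b + κ 1 y + (theta H b / b + 1) * δ 1 y with hη
  have hεi : ∀ b, b ≠ 0 → ∀ y ∈ W, ∀ y', p y = p y' → ε b y' = ε b y := by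
    intro b hb y hy y' hyy
    obtain ⟨v, rfl⟩ := hlift y y' hyy
    simp only [hε, hδi _ y hy v]
    field_simp
    linear_combination b * v 0 * H.two
  have hηi : ∀ b, b ≠ 0 → ∀ y ∈ W, ∀ y', p y = p y' → η b y' = η b y := by
    intro b hb y hy y' hyy
    obtain ⟨v, rfl⟩ := hlift y y' hyy
    simp only [hη, hκi _ y hy v, hδi _ y hy v, map_one]
    field_simp
    linear_combination (b * v 1 + theta H b * v 0 + b * v 0) * H.two
  have hεadd : ∀ b, ∀ y ∈ W, ∀ y' ∈ W, ε b (y + y') = ε b y + ε b y' := fun b y hy y' hy' => by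
    simp only [hε, hδ, hDadd b y hy y' hy', hDadd 1 y hy y' hy', Pi.add_apply]
    ring
  choose Y hY using fun c : F => hp ![0, 0, c, 0]
  have hYW : ∀ c, Y c ∈ W := fun c => by simp [hWmem, hY]
  set S : F → F → R := fun a c => τ (su H a 0) (Y c) - Y c with hS
  have hSW : ∀ a c, S a c ∈ W := fun a c => W.sub_mem (hτW a _ (hYW c)) (hYW c)
  have hpS : ∀ a c, p (S a c) = ![0, 0, 0, a * c] := fun a c => by
    rw [hS]
    simp only [map_sub, hpe, hY, hNs]
    funext j
    fin_cases j <;> simp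
  have hDS : ∀ a b c, D b (S a c) = ![0, 0, 0, a * δ b (Y c)] := by
    intro a b c
    have h := hDadd b (S a c) (hSW a c) (Y c) (hYW c)
    rw [show S a c + Y c = τ (su H a 0) (Y c) from sub_add_cancel _ _, hDs a b _ (hYW c)] at h
    rw [eq_sub_of_add_eq h.symm, hNs]
    funext j
    fin_cases j <;>
      simp [(hDrow b _ (hYW c)).1, (hDrow b _ (hYW c)).2, hδ]
  have hεS : ∀ a b c, ε b (S a c) = 0 := fun a b c => by simp [hε, hδ, hDS]
  have hηS : ∀ a b c, η b (S a c) = a * ε b (Y c) := fun a b c => by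
    simp [hη, hκ, hε, hδ, hDS]
    ring
  have hεY : ∀ b, b ≠ 0 → ∀ a, ε b (Y a) = a * ε b (Y 1) := by
    intro b hb a
    have h1 := hηi b hb _ (hSW a 1) (S 1 a) (by simp [hpS])
    rwa [hηS, hηS, one_mul] at h1
  have hεall : ∀ b, b ≠ 0 → ∀ y ∈ W, ε b y = p y 2 * ε b (Y 1) := by
    intro b hb y hy
    have h1 := hεi b hb (Y (p y 2) + S (p y 3) 1) (W.add_mem (hYW _) (hSW _ _)) y (by
      rw [map_add, hY, hpS]
      funext j
      fin_cases j <;> simp [(hWmem.1 hy).1, (hWmem.1 hy).2])
    rw [h1, hεadd b _ (hYW _) _ (hSW _ _), hεS, add_zero, hεY b hb]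
  -- the contradiction
  obtain ⟨x, hx⟩ := hp ![1, 0, 0, 0]
  set y : F → R := fun b => τ (z b) x - x with hy
  have hpy : ∀ b, p (y b) = ![0, 0, b, theta H b] := fun b => by
    rw [hy]
    simp only [map_sub, hpe, hx, hNz]
    funext j
    fin_cases j <;> simp
  have hyW : ∀ b, y b ∈ W := fun b => by simp [hWmem, hpy]
  have hDy : ∀ b, δ b (y b) = b := by
    intro b
    have h1 : D b (y b) = -p (y b) := by
      apply hi
      rw [hDi b _ (hyW b), map_neg, hdouble, hy]
      simp only [map_sub, ← hτmul, hzmul, CharTwo.add_self_eq_zero]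
      rw [hz]
      simp only [su_zero, hτone]
      abel
    simp [hδ, h1, hpy, CharTwo.neg_eq]
  set f : F → F := fun b => δ 1 (y b) + (δ b (Y 1) + b * δ 1 (Y 1)) with hf
  have hf1 : ∀ b, b ≠ 0 → f b = 1 := by
    intro b hb
    have h1 := hεall b hb _ (hyW b)
    simp only [hε, hDy, hpy, Matrix.cons_val] at h1
    simp only [hf]
    rw [div_self hb, mul_add, mul_div_cancel₀ _ hb] at h1
    linear_combination h1 + (δ b (Y 1) + b * δ 1 (Y 1) - 1) * H.two
  have hfadd : ∀ b c, f (b + c) = f b + f c := by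
    intro b c
    have h1 : y (b + c) = (y c + y b) + i (D b (y c)) := by
      rw [hDi b _ (hyW c), hy]
      simp only [map_sub, ← hτmul, hzmul]
      abel
    have h2 : δ 1 (y (b + c)) = δ 1 (y b) + δ 1 (y c) := by
      rw [h1, hδi 1 _ (W.add_mem (hyW c) (hyW b)), (hDrow b _ (hyW c)).1, mul_zero, add_zero]
      simp only [hδ, hDadd 1 _ (hyW c) _ (hyW b), Pi.add_apply]
      ring
    simp only [hf, h2]
    simp only [hδ, hDlin b c _ (hYW 1), Pi.add_apply]
    ring
  obtain ⟨s, hs0, hs1⟩ := exists_ne_zero_one h8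
  have h := hfadd 1 s
  rw [hf1 1 one_ne_zero, hf1 s hs0, hf1 (1 + s) (fun h => hs1 (H.eq_of_add h).symm),
    CharTwo.add_self_eq_zero] at h
  exact one_ne_zero h

end CfsgLib.Recog.SzModule
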