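import Cfsg.Agent.Lib.Recog.SzModule.Elem
import Cfsg.Agent.Lib.Recog.SzModule.Bilin
import Cfsg.Agent.Lib.Recog.SzModule.Free
import Cfsg.Agent.Lib.Coprime.Action
import Cfsg.Agent.Lib.PGroups.Basic

/-!
A 2-group with Suzuki quotient on which the elements of odd order act without fixed points is
elementary abelian: reduction to three facts about modules of the Suzuki group.
-/

set_option autoImplicit false
set_option linter.style.haveILetI false
set_option linter.unusedSectionVars false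

namespace CfsgLib.Recog.SzModule

open Cfsg.Lie CfsgLib.KnownA.Suzuki

universe u

section

variable {G : Type u} [Group G] [Finite G] {F : Type} [Field F] [Finite F] {e : ℕ}
  (π : G →* Sz F e)

/-- Elements of odd order act without fixed points on the kernel of `π`. -/
def GFPF : Prop :=
  ∀ g : G, g ≠ 1 → Odd (orderOf g) → ∀ n ∈ π.ker, g * n = n * g → n = 1

/-- A fixed-point-free module of the Suzuki group with a least nontrivial invariant subgroup is
natural. -/
def NatHyp (F : Type) [Field F] (e : ℕ) : Prop :=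
  ∀ (M : Type u) [AddCommGroup M] [Finite M], (∀ x : M, x + x = 0) →
    ∀ τ : Sz F e →* AddMonoid.End M,
      (∀ g : Sz F e, g ≠ 1 → Odd (orderOf g) → ∀ x : M, τ g x = x → x = 0) →
      ∀ U : AddSubgroup M, U ≠ ⊥ →
        (∀ P : AddSubgroup M, (∀ g, ∀ x ∈ P, τ g x ∈ P) → P ≠ ⊥ → U ≤ P) →
        ∃ L : M ≃+ (Fin 4 → F), ∀ g x, L (τ g x) = nat4 (RingHom.id F) g (L x)

/-- Biadditive equivariant maps between natural modules vanish. -/
def BilHyp (F : Type) [Field F] (e : ℕ) : Prop :=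
  ∀ β : (Fin 4 → F) →+ (Fin 4 → F) →+ (Fin 4 → F),
    (∀ (g : Sz F e) x y,
      β (nat4 (RingHom.id F) g x) (nat4 (RingHom.id F) g y) = nat4 (RingHom.id F) g (β x y)) →
    β = 0

/-- The natural module has no lift of exponent four. -/
def FreeHyp (F : Type) [Field F] (e : ℕ) : Prop :=
  ∀ (R : Type u) [AddCommGroup R] (τ : Sz F e →* AddMonoid.End R) (p : R →+ (Fin 4 → F))
    (i : (Fin 4 → F) →+ R), Function.Surjective p → Function.Injective i → p.ker = i.range →
    (∀ r, i (p r) = r + r) → (∀ g v, i (nat4 (RingHom.id F) g v) = τ g (i v)) →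
    (∀ g r, p (τ g r) = nat4 (RingHom.id F) g (p r)) → False

/-- An element of odd order of the Suzuki quotient lifts to one of odd order. -/
theorem exists_odd_lift {H : Type*} [Group H] (f : G →* H) (hf : Function.Surjective f) {x : H}
    (hx : Odd (orderOf x)) : ∃ g : G, f g = x ∧ Odd (orderOf g) := by
  obtain ⟨g₀, rfl⟩ := hf x
  obtain ⟨k, r, hr, hkr⟩ := Nat.exists_eq_two_pow_mul_odd (orderOf_pos g₀).ne'
  have hcop : Nat.Coprime (2 ^ k) (orderOf (f g₀)) := hx.coprime_two_left.pow_left k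
  obtain ⟨j, hj⟩ := exists_pow_eq_self_of_coprime hcop
  refine ⟨(g₀ ^ 2 ^ k) ^ j, ?_, ?_⟩
  · rw [map_pow, map_pow, hj]
  · refine Odd.of_dvd_nat hr ((orderOf_pow_dvd j).trans (orderOf_dvd_of_pow_eq_one ?_))
    rw [← pow_mul, ← hkr, pow_orderOf_eq_one]

variable {π}

/-- Fixed-point-freeness passes to quotients. -/
theorem GFPF.mem {W : Subgroup G} [hWn : W.Normal] (h : GFPF π) (hN : IsPGroup 2 π.ker)
    (hW : W ≤ π.ker) {g n : G} (hg1 : g ≠ 1) (hg : Odd (orderOf g)) (hn : n ∈ π.ker)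
    (hfix : n⁻¹ * (g * n * g⁻¹) ∈ W) : n ∈ W := by
  haveI : Fact (Nat.Prime 2) := ⟨Nat.prime_two⟩
  have hcom : Commute (QuotientGroup.mk' W n) (QuotientGroup.mk' W g) := by
    have h1 : QuotientGroup.mk' W (n⁻¹ * (g * n * g⁻¹)) = 1 :=
      (QuotientGroup.eq_one_iff _).2 hfix
    rw [map_mul, map_inv, map_mul, map_mul, map_inv, inv_mul_eq_one] at h1
    exact eq_mul_inv_iff_mul_eq.1 h1
  obtain ⟨k, hk⟩ := IsPGroup.iff_card.1 (hN.to_le hW)
  obtain ⟨c, hc, hcW⟩ := Coprime.exists_centralizing_in_coset (A := Subgroup.zpowers g) (N := W)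
    (k := n) (by rw [Subgroup.normalizer_eq_top]; exact le_top)
    (by rw [Nat.card_zpowers, hk]; exact hg.coprime_two_right.pow_right k)
    (Or.inl inferInstance) (fun a ha => by
      obtain ⟨i, rfl⟩ := ha
      refine (QuotientGroup.eq_one_iff _).1 ?_
      show QuotientGroup.mk' W (n⁻¹ * (g ^ i * n * (g ^ i)⁻¹)) = 1
      rw [map_mul, map_inv, map_mul, map_mul, map_inv, map_zpow, inv_mul_eq_one]
      exact eq_mul_inv_iff_mul_eq.2 (hcom.zpow_right i).eq)
  have hcN : c ∈ π.ker := by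
    have := mul_mem hn (hW hcW)
    rwa [mul_inv_cancel_left] at this
  have hc1 : c = 1 := h g hg1 hg c hcN
    (Subgroup.mem_centralizer_iff.1 hc g (Subgroup.mem_zpowers g))
  rw [hc1, mul_one] at hcW
  exact inv_inv n ▸ W.inv_mem hcW

/-- The natural structure of a section. -/
def IsNatSec (π : G →* Sz F e) (V W : Subgroup G) (L : G → Fin 4 → F) : Prop :=
  (∀ x ∈ V, ∀ y ∈ V, L (x * y) = L x + L y) ∧ (∀ x ∈ V, L x = 0 ↔ x ∈ W) ∧
    (∀ v, ∃ x ∈ V, L x = v) ∧ ∀ g : G, ∀ x ∈ V, L (g * x * g⁻¹) = nat4 (RingHom.id F) (π g) (L x)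

/-- A monoid action killing the kernel descends to the image. -/
theorem exists_descend {G H E : Type*} [Group G] [Group H] [Monoid E] (f : G →* H)
    (hf : Function.Surjective f) (a : G →* E) (hk : ∀ n ∈ f.ker, a n = 1) :
    ∃ τ : H →* E, ∀ g, τ (f g) = a g := by
  refine ⟨(Units.coeHom E).comp (f.liftOfSurjective hf ⟨a.toHomUnits, fun n hn =>
    MonoidHom.mem_ker.2 (Units.ext (hk n hn))⟩), fun g => ?_⟩
  have := MonoidHom.liftOfRightInverse_comp_apply f (Function.surjInv hf)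
    (Function.rightInverse_surjInv hf)
    ⟨a.toHomUnits, fun n hn => MonoidHom.mem_ker.2 (Units.ext (hk n hn))⟩ g
  exact congrArg Units.val this

/-- An elementary section centralised by the kernel, with a least invariant part, is natural. -/
theorem exists_natSec (hsurj : Function.Surjective π) (hN : IsPGroup 2 π.ker) (h : GFPF π)
    (hnat : NatHyp.{u} F e) {V W U : Subgroup G} [hVn : V.Normal] [hWn : W.Normal] [hUn : U.Normal]
    (hWU : W < U) (hUV : U ≤ V) (hVN : V ≤ π.ker) (hsq : ∀ x ∈ V, x * x ∈ W)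
    (hcomm : ∀ n ∈ π.ker, ∀ x ∈ V, x⁻¹ * (n * x * n⁻¹) ∈ W)
    (hmono : ∀ P : Subgroup G, P.Normal → W < P → P ≤ V → U ≤ P) :
    ∃ L : G → Fin 4 → F, IsNatSec π V W L := by
  classical
  set q : ↥V →* ↥V ⧸ W.subgroupOf V := QuotientGroup.mk' (W.subgroupOf V) with hqdef
  have hqs : Function.Surjective q := QuotientGroup.mk'_surjective _
  have hqe : ∀ x y : V, q x = q y ↔ (x : G)⁻¹ * y ∈ W := fun x y =>
    QuotientGroup.eq.trans Subgroup.mem_subgroupOf
  letI hCG : CommGroup (↥V ⧸ W.subgroupOf V) :=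
    { (inferInstance : Group (↥V ⧸ W.subgroupOf V)) with
      mul_comm := fun a b => by
        obtain ⟨x, rfl⟩ := hqs a
        obtain ⟨y, rfl⟩ := hqs b
        rw [← map_mul, ← map_mul, hqe]
        have := hcomm x (hVN x.2) y y.2
        have := W.inv_mem (hWn.conj_mem _ this (x : G)⁻¹)
        convert this using 1
        simp [mul_assoc] }
  let M := Additive (↥V ⧸ W.subgroupOf V)
  haveI : Finite M := inferInstanceAs (Finite (↥V ⧸ W.subgroupOf V))
  let cV : G → ↥V → ↥V := fun g x => ⟨g * x * g⁻¹, hVn.conj_mem _ x.2 g⟩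
  have hcV : ∀ g (x y : V), cV g (x * y) = cV g x * cV g y := fun g x y =>
    Subtype.ext (by simp [cV, mul_assoc])
  have hcW : ∀ g, W.subgroupOf V ≤ (q.comp (MonoidHom.mk' (cV g) (hcV g))).ker := fun g x hx => by
    rw [MonoidHom.mem_ker, MonoidHom.comp_apply, MonoidHom.mk'_apply, ← map_one q, hqe]
    simpa [cV, mul_assoc] using hWn.conj_mem _ (W.inv_mem hx) g
  let act : G →* AddMonoid.End M :=
    { toFun := fun g => (MonoidHom.toAdditive (QuotientGroup.lift _ _ (hcW g)) : AddMonoid.End M)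
      map_one' := AddMonoidHom.ext fun a => by
        obtain ⟨x, hx⟩ := hqs a.toMul
        obtain rfl : Additive.ofMul (q x) = a := by rw [hx]; rfl
        show Additive.ofMul (q (cV 1 x)) = Additive.ofMul (q x)
        rw [show cV 1 x = x from Subtype.ext (by simp [cV])]
      map_mul' := fun g k => AddMonoidHom.ext fun a => by
        obtain ⟨x, hx⟩ := hqs a.toMul
        obtain rfl : Additive.ofMul (q x) = a := by rw [hx]; rfl
        show Additive.ofMul (q (cV (g * k) x)) = Additive.ofMul (q (cV g (cV k x)))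
        congr 2
        exact Subtype.ext (by simp [cV, mul_assoc]) }
  have hact : ∀ g x, act g (Additive.ofMul (q x)) = Additive.ofMul (q (cV g x)) := fun g x => rfl
  have hker : π.ker ≤ act.ker := fun n hn => by
    rw [MonoidHom.mem_ker]
    refine AddMonoidHom.ext fun a => ?_
    obtain ⟨x, hx⟩ := hqs a.toMul
    obtain rfl : Additive.ofMul (q x) = a := by rw [hx]; rfl
    show Additive.ofMul (q (cV n x)) = Additive.ofMul (q x)
    exact congrArg Additive.ofMul ((hqe _ _).2 (by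
      have := W.inv_mem (hcomm n hn x x.2)
      simpa [cV, mul_assoc] using this))
  obtain ⟨τ, hτ⟩ := exists_descend π hsurj act fun n hn => MonoidHom.mem_ker.1 (hker hn)
  have h2 : ∀ a : M, a + a = 0 := fun a => by
    obtain ⟨x, hx⟩ := hqs a.toMul
    obtain rfl : Additive.ofMul (q x) = a := by rw [hx]; rfl
    rw [← ofMul_mul, ← map_mul, ← ofMul_one]
    exact congrArg Additive.ofMul ((QuotientGroup.eq_one_iff _).2
      (Subgroup.mem_subgroupOf.2 (hsq x x.2)))
  have hfix : ∀ s : Sz F e, s ≠ 1 → Odd (orderOf s) → ∀ a : M, τ s a = a → a = 0 := by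
    intro s hs1 hso a ha
    obtain ⟨g, rfl, hgo⟩ := exists_odd_lift π hsurj hso
    obtain ⟨x, hx⟩ := hqs a.toMul
    obtain rfl : Additive.ofMul (q x) = a := by rw [hx]; rfl
    rw [hτ, hact] at ha
    have h1 := (hqe _ _).1 (Additive.ofMul.injective ha)
    have hg1 : g ≠ 1 := fun e => hs1 (by rw [e, map_one])
    have : (x : G) ∈ W := by
      refine h.mem hN (hWU.le.trans (hUV.trans hVN)) hg1 hgo (hVN x.2) ?_
      have := W.inv_mem h1
      simpa [cV, mul_assoc] using this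
    rw [← ofMul_one]
    exact congrArg Additive.ofMul ((QuotientGroup.eq_one_iff _).2 (Subgroup.mem_subgroupOf.2 this))
  let U' : AddSubgroup M := ((U.subgroupOf V).map q).toAddSubgroup
  have hU' : ∀ x : V, Additive.ofMul (q x) ∈ U' ↔ (x : G) ∈ U := fun x => by
    show q x ∈ (U.subgroupOf V).map q ↔ _
    refine ⟨?_, fun hx => ⟨x, hx, rfl⟩⟩
    rintro ⟨y, hy, hxy⟩
    have := U.mul_mem (show (y : G) ∈ U from hy) (hWU.le ((hqe _ _).1 hxy))
    rwa [mul_inv_cancel_left] at this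
  have hU0 : U' ≠ ⊥ := fun e => by
    obtain ⟨x, hxU, hxW⟩ := SetLike.exists_of_lt hWU
    have h1 := (hU' ⟨x, hUV hxU⟩).2 hxU
    rw [e, AddSubgroup.mem_bot] at h1
    exact hxW (Subgroup.mem_subgroupOf.1 ((QuotientGroup.eq_one_iff _).1
      (Additive.ofMul.injective h1 : q ⟨x, hUV hxU⟩ = 1)))
  have hleast : ∀ P : AddSubgroup M, (∀ s, ∀ a ∈ P, τ s a ∈ P) → P ≠ ⊥ → U' ≤ P := by
    intro P hP hP0
    let P₀ : Subgroup G :=
      ((AddSubgroup.toSubgroup' P).comap q).map V.subtype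
    have hP₀ : ∀ x : V, (x : G) ∈ P₀ ↔ Additive.ofMul (q x) ∈ P := fun x => by
      refine ⟨?_, fun hx => ⟨x, hx, rfl⟩⟩
      rintro ⟨y, hy, hxy⟩
      obtain rfl : y = x := Subtype.ext hxy
      exact hy
    have hP₀V : P₀ ≤ V := Subgroup.map_subtype_le _
    have hn : P₀.Normal := ⟨fun x hx g => by
      have hxV := hP₀V hx
      refine (hP₀ (cV g ⟨x, hxV⟩)).2 ?_
      rw [← hact, ← hτ]
      exact hP _ _ ((hP₀ ⟨x, hxV⟩).1 hx)⟩
    have hlt : W < P₀ := by
      refine lt_of_le_of_ne (fun w hw => ?_) fun e => hP0 ?_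
      · refine (hP₀ ⟨w, hUV (hWU.le hw)⟩).2 ?_
        rw [show q ⟨w, hUV (hWU.le hw)⟩ = 1 from
          (QuotientGroup.eq_one_iff _).2 (Subgroup.mem_subgroupOf.2 hw)]
        exact P.zero_mem
      · refine (AddSubgroup.eq_bot_iff_forall _).2 fun a ha => ?_
        obtain ⟨x, hx⟩ := hqs a.toMul
        obtain rfl : Additive.ofMul (q x) = a := by rw [hx]; rfl
        have : (x : G) ∈ W := e ▸ (hP₀ x).2 ha
        rw [← ofMul_one]
        exact congrArg Additive.ofMul
          ((QuotientGroup.eq_one_iff _).2 (Subgroup.mem_subgroupOf.2 this))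
    intro a ha
    obtain ⟨x, hx⟩ := hqs a.toMul
    obtain rfl : Additive.ofMul (q x) = a := by rw [hx]; rfl
    exact (hP₀ x).1 (hmono P₀ hn hlt hP₀V ((hU' x).1 ha))
  obtain ⟨L, hL⟩ := hnat M h2 τ hfix U' hU0 hleast
  refine ⟨fun x => if hx : x ∈ V then L (Additive.ofMul (q ⟨x, hx⟩)) else 0,
    fun x hx y hy => ?_, fun x hx => ?_, fun v => ?_, fun g x hx => ?_⟩
  · dsimp only
    rw [dif_pos hx, dif_pos hy, dif_pos (mul_mem hx hy), ← map_add, ← ofMul_mul, ← map_mul]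
    rfl
  · dsimp only
    rw [dif_pos hx, L.map_eq_zero_iff]
    show q ⟨x, hx⟩ = 1 ↔ _
    exact (QuotientGroup.eq_one_iff _).trans Subgroup.mem_subgroupOf
  · obtain ⟨x, hx⟩ := hqs (L.symm v).toMul
    refine ⟨x, x.2, ?_⟩
    dsimp only
    rw [dif_pos x.2]
    show L (Additive.ofMul (q x)) = v
    rw [hx, ofMul_toMul, L.apply_symm_apply]
  · dsimp only
    rw [dif_pos hx, dif_pos (hVn.conj_mem x hx g), ← hL, hτ, hact]

theorem conj_mem_ker {g x : G} (hx : x ∈ π.ker) : g * x * g⁻¹ ∈ π.ker :=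
  (inferInstance : π.ker.Normal).conj_mem x hx g

/-- The main step: if all proper quotients are settled, the kernel is elementary abelian. -/
theorem elementary_step (H : TitsField F e) (hsurj : Function.Surjective π)
    (hN : IsPGroup 2 π.ker) (h : GFPF π) (hnat : NatHyp.{u} F e) (hbil : BilHyp F e)
    (hfree : FreeHyp.{u} F e)
    (ih : ∀ P : Subgroup G, P.Normal → P ≤ π.ker → P ≠ ⊥ →
      ∀ x ∈ π.ker, x * x ∈ P ∧ ∀ y ∈ π.ker, x⁻¹ * (y * x * y⁻¹) ∈ P) :
    ∀ x ∈ π.ker, x * x = 1 ∧ ∀ y ∈ π.ker, y * x = x * y := by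
  classical
  haveI : Fact (Nat.Prime 2) := ⟨Nat.prime_two⟩
  by_cases hN0 : π.ker = ⊥
  · intro x hx
    rw [hN0, Subgroup.mem_bot] at hx
    subst hx
    simp
  obtain ⟨U, ⟨hUn, hUN, hU0⟩, hUmin⟩ := wellFounded_lt.has_min
    {P : Subgroup G | P.Normal ∧ P ≤ π.ker ∧ P ≠ ⊥} ⟨π.ker, inferInstance, le_rfl, hN0⟩
  haveI := hUn
  by_cases hmono : ∀ P : Subgroup G, P.Normal → P ≤ π.ker → P ≠ ⊥ → U ≤ P
  swap
  · push Not at hmono
    obtain ⟨P, hPn, hPN, hP0, hUP⟩ := hmono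
    have hinf : U ⊓ P = ⊥ := by
      by_contra hne
      refine hUmin (U ⊓ P) ⟨inferInstance, inf_le_left.trans hUN, hne⟩
        (lt_of_le_of_ne inf_le_left fun e => hUP (e ▸ inf_le_right))
    intro x hx
    obtain ⟨a1, a2⟩ := ih U hUn hUN hU0 x hx
    obtain ⟨b1, b2⟩ := ih P hPn hPN hP0 x hx
    refine ⟨Subgroup.mem_bot.1 (hinf.le ⟨a1, b1⟩), fun y hy => ?_⟩
    have h1 : x⁻¹ * (y * x * y⁻¹) = 1 := Subgroup.mem_bot.1 (hinf.le ⟨a2 y hy, b2 y hy⟩)
    exact eq_mul_inv_iff_mul_eq.1 (inv_mul_eq_one.1 h1) |>.symm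
  -- `U` is the least nontrivial normal subgroup in the kernel
  let Z : Subgroup G := π.ker ⊓ Subgroup.centralizer (π.ker : Set G)
  have hZn : Z.Normal := inferInstance
  have hUZ : U ≤ Z := by
    have hne : U.subgroupOf π.ker ⊓ Subgroup.center π.ker ≠ ⊥ :=
      PGroups.inf_center_ne_bot hN fun e => hU0 (by
        rw [Subgroup.subgroupOf_eq_bot] at e
        exact le_bot_iff.1 (e le_rfl hUN))
    obtain ⟨⟨z, hz⟩, ⟨hzU, hzc⟩, hz1⟩ := (Subgroup.bot_or_exists_ne_one _).resolve_left hne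
    refine le_trans ?_ (inf_le_right : U ⊓ Z ≤ Z)
    refine hmono _ inferInstance (inf_le_left.trans hUN) fun e => hz1 (Subtype.ext ?_)
    refine Subgroup.mem_bot.1 (e ▸ (⟨hzU, hz, ?_⟩ : z ∈ U ⊓ Z))
    exact Subgroup.mem_centralizer_iff.2 fun y hy =>
      congrArg Subtype.val (Subgroup.mem_center_iff.1 hzc ⟨y, hy⟩)
  have hUc : ∀ a ∈ U, ∀ y ∈ π.ker, y * a = a * y := fun a ha y hy =>
    Subgroup.mem_centralizer_iff.1 (hUZ ha).2 y hy
  have hUsq : ∀ a ∈ U, a * a = 1 := by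
    let T : Subgroup G :=
      { carrier := {a | a ∈ U ∧ a * a = 1}
        one_mem' := ⟨one_mem _, one_mul 1⟩
        inv_mem' := fun {a} ha => ⟨U.inv_mem ha.1, by rw [← mul_inv_rev, ha.2, inv_one]⟩
        mul_mem' := fun {a b} ha hb => ⟨U.mul_mem ha.1 hb.1, by
          have hc : Commute b a := (hUc a ha.1 b (hUN hb.1))
          rw [hc.mul_mul_mul_comm, ha.2, hb.2, one_mul]⟩ }
    have hT : T.Normal := ⟨fun a ha g => ⟨hUn.conj_mem a ha.1 g, by
      rw [show g * a * g⁻¹ * (g * a * g⁻¹) = g * (a * a) * g⁻¹ by group, ha.2]; group⟩⟩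
    have hT0 : T ≠ ⊥ := fun e => by
      have hd : 2 ∣ Nat.card U := by
        obtain ⟨k, hk⟩ := IsPGroup.iff_card.1 (hN.to_le hUN)
        rcases k with _ | k
        · exact absurd (Subgroup.eq_bot_of_card_eq U (by simpa using hk)) hU0
        · rw [hk]; exact dvd_pow_self 2 (by omega)
      obtain ⟨a, ha⟩ := exists_prime_orderOf_dvd_card' (G := U) 2 hd
      have : (a : G) ∈ T := ⟨a.2, by
        have h1 := pow_orderOf_eq_one a
        rw [ha, pow_two] at h1
        exact congrArg Subtype.val h1⟩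
      rw [e, Subgroup.mem_bot] at this
      rw [Subtype.ext this (a2 := (1 : U)), orderOf_one] at ha
      omega
    exact fun a ha => (hmono T hT (fun a ha => hUN ha.1) hT0 ha).2
  have hsqU : ∀ x ∈ π.ker, x * x ∈ U := fun x hx => (ih U hUn hUN hU0 x hx).1
  have hcU : ∀ x ∈ π.ker, ∀ y ∈ π.ker, x⁻¹ * (y * x * y⁻¹) ∈ U := fun x hx y hy =>
    (ih U hUn hUN hU0 x hx).2 y hy
  have hbU : ∀ x ∈ U, ∀ n ∈ π.ker, x⁻¹ * (n * x * n⁻¹) ∈ (⊥ : Subgroup G) := fun x hx n hn => by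
    rw [Subgroup.mem_bot, hUc x hx n hn]
    group
  obtain ⟨LU, hLa, hL0, hLs, hLe⟩ := exists_natSec hsurj hN h hnat (V := U) (W := ⊥) (U := U)
    (bot_lt_iff_ne_bot.2 hU0) le_rfl hUN (fun x hx => Subgroup.mem_bot.2 (hUsq x hx))
    (fun n hn x hx => hbU x hx n hn)
    (fun P hP hlt hle => hmono P hP (hle.trans hUN) hlt.ne')
  have hL1 : LU 1 = 0 := (hL0 1 (one_mem _)).2 (one_mem _)
  have hLinj : ∀ a ∈ U, ∀ b ∈ U, LU a = LU b → a = b := fun a ha b hb e => by
    have h1 : LU (a⁻¹ * b) + LU a = LU b := by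
      rw [← hLa _ (mul_mem (inv_mem ha) hb) _ ha, hUc a ha _ (hUN (mul_mem (inv_mem ha) hb)),
        mul_inv_cancel_left]
    rw [e, add_eq_right] at h1
    exact inv_mul_eq_one.1 (Subgroup.mem_bot.1 ((hL0 _ (mul_mem (inv_mem ha) hb)).1 h1))
  -- the kernel is abelian
  have hab : ∀ x ∈ π.ker, ∀ y ∈ π.ker, y * x = x * y := by
    by_contra hna
    push Not at hna
    obtain ⟨x₀, hx₀, y₀, hy₀, hne⟩ := hna
    have hZlt : Z < π.ker := lt_of_le_of_ne inf_le_left fun e => hne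
      (Subgroup.mem_centralizer_iff.1 (e.symm ▸ hx₀ : x₀ ∈ Z).2 y₀ hy₀)
    obtain ⟨P, ⟨hPn, hPlt, hPN⟩, hPmin⟩ := wellFounded_lt.has_min
      {P : Subgroup G | P.Normal ∧ Z < P ∧ P ≤ π.ker} ⟨π.ker, inferInstance, hZlt, le_rfl⟩
    haveI := hPn
    let C : Subgroup G := π.ker ⊓ Subgroup.centralizer (P : Set G)
    have hCn : C.Normal := inferInstance
    have hUC : U ≤ C := fun a ha => ⟨hUN ha, Subgroup.mem_centralizer_iff.2 fun p hp =>
      hUc a ha p (hPN hp)⟩
    have hClt : C < π.ker := lt_of_le_of_ne inf_le_left fun e => by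
      obtain ⟨p, hp, hpZ⟩ := SetLike.exists_of_lt hPlt
      exact hpZ ⟨hPN hp, Subgroup.mem_centralizer_iff.2 fun y hy =>
        (Subgroup.mem_centralizer_iff.1 (e.symm ▸ hy : y ∈ C).2 p hp).symm⟩
    obtain ⟨Q, ⟨hQn, hQlt, hQN⟩, hQmin⟩ := wellFounded_lt.has_min
      {Q : Subgroup G | Q.Normal ∧ C < Q ∧ Q ≤ π.ker} ⟨π.ker, inferInstance, hClt, le_rfl⟩
    haveI := hQn
    obtain ⟨LP, hPa, hP0, hPs, hPe⟩ := exists_natSec hsurj hN h hnat (V := P) (W := Z) (U := P)
      hPlt le_rfl hPN (fun x hx => hUZ (hsqU x (hPN hx)))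
      (fun n hn x hx => hUZ (hcU x (hPN hx) n hn))
      (fun R hR hlt hle => by
        by_contra hn'
        exact hPmin R ⟨hR, hlt, hle.trans hPN⟩ (lt_of_le_of_ne hle fun e => hn' e.ge))
    obtain ⟨LQ, hQa, hQ0, hQs, hQe⟩ := exists_natSec hsurj hN h hnat (V := Q) (W := C) (U := Q)
      hQlt le_rfl hQN (fun x hx => hUC (hsqU x (hQN hx)))
      (fun n hn x hx => hUC (hcU x (hQN hx) n hn))
      (fun R hR hlt hle => by
        by_contra hn'
        exact hQmin R ⟨hR, hlt, hle.trans hQN⟩ (lt_of_le_of_ne hle fun e => hn' e.ge))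
    choose sP hsP hsP' using hPs
    choose sQ hsQ hsQ' using hQs
    let cm : G → G → G := fun x y => x⁻¹ * (y * x * y⁻¹)
    have hcm : ∀ x ∈ π.ker, ∀ y ∈ π.ker, cm x y ∈ U := hcU
    have hmul₁ : ∀ x ∈ π.ker, ∀ x' ∈ π.ker, ∀ y ∈ π.ker,
        LU (cm (x * x') y) = LU (cm x y) + LU (cm x' y) := fun x hx x' hx' y hy => by
      have e1 : cm (x * x') y = x'⁻¹ * cm x y * (y * x' * y⁻¹) := by simp [cm, mul_assoc]
      rw [e1, hUc _ (hcm x hx y hy) _ (inv_mem hx'), mul_assoc,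
        hLa _ (hcm x hx y hy) _ (hcm x' hx' y hy)]
    have hmul₂ : ∀ x ∈ π.ker, ∀ y ∈ π.ker, ∀ y' ∈ π.ker,
        LU (cm x (y * y')) = LU (cm x y) + LU (cm x y') := fun x hx y hy y' hy' => by
      have e1 : cm x (y * y') = cm x y * (y * cm x y' * y⁻¹) := by simp [cm, mul_assoc]
      rw [e1, hUc _ (hcm x hx y' hy') _ hy, mul_inv_cancel_right,
        hLa _ (hcm x hx y hy) _ (hcm x hx y' hy')]
    have hker₁ : ∀ z ∈ Z, ∀ y ∈ π.ker, LU (cm z y) = 0 := fun z hz y hy => by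
      have : cm z y = 1 := by
        show z⁻¹ * (y * z * y⁻¹) = 1
        rw [Subgroup.mem_centralizer_iff.1 hz.2 y hy, mul_inv_cancel_right, inv_mul_cancel]
      rw [this, hL1]
    have hker₂ : ∀ x ∈ P, ∀ c ∈ C, LU (cm x c) = 0 := fun x hx c hc => by
      have : cm x c = 1 := by
        show x⁻¹ * (c * x * c⁻¹) = 1
        rw [← Subgroup.mem_centralizer_iff.1 hc.2 x hx, mul_inv_cancel_right, inv_mul_cancel]
      rw [this, hL1]
    have hwd : ∀ x ∈ P, ∀ y ∈ Q, LU (cm x y) = LU (cm (sP (LP x)) (sQ (LQ y))) := by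
      intro x hx y hy
      have hz : x * (sP (LP x))⁻¹ ∈ Z := by
        refine (hP0 _ (mul_mem hx (inv_mem (hsP _)))).1 ?_
        have e1 := hPa _ (mul_mem hx (inv_mem (hsP (LP x)))) _ (hsP (LP x))
        rw [inv_mul_cancel_right, hsP'] at e1
        exact add_eq_right.1 e1.symm
      have hc : y * (sQ (LQ y))⁻¹ ∈ C := by
        refine (hQ0 _ (mul_mem hy (inv_mem (hsQ _)))).1 ?_
        have e1 := hQa _ (mul_mem hy (inv_mem (hsQ (LQ y)))) _ (hsQ (LQ y))
        rw [inv_mul_cancel_right, hsQ'] at e1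
        exact add_eq_right.1 e1.symm
      have e1 := hmul₁ _ hz.1 _ (hPN (hsP (LP x))) _ (hQN hy)
      rw [inv_mul_cancel_right, hker₁ _ hz _ (hQN hy), zero_add] at e1
      have e2 := hmul₂ _ (hPN (hsP (LP x))) _ hc.1 _ (hQN (hsQ (LQ y)))
      rw [inv_mul_cancel_right, hker₂ _ (hsP _) _ hc, zero_add] at e2
      rw [e1, e2]
    let β : (Fin 4 → F) →+ (Fin 4 → F) →+ (Fin 4 → F) :=
      AddMonoidHom.mk' (fun a => AddMonoidHom.mk' (fun b => LU (cm (sP a) (sQ b))) fun b b' => by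
        have e1 := hwd _ (hsP a) _ (mul_mem (hsQ b) (hsQ b'))
        rw [hsP', hQa _ (hsQ b) _ (hsQ b'), hsQ', hsQ',
          hmul₂ _ (hPN (hsP a)) _ (hQN (hsQ b)) _ (hQN (hsQ b'))] at e1
        exact e1.symm) fun a a' => AddMonoidHom.ext fun b => by
        have e1 := hwd _ (mul_mem (hsP a) (hsP a')) _ (hsQ b)
        rw [hsQ', hPa _ (hsP a) _ (hsP a'), hsP', hsP',
          hmul₁ _ (hPN (hsP a)) _ (hPN (hsP a')) _ (hQN (hsQ b))] at e1
        exact e1.symm
    have hβ := hbil β fun s a b => by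
      obtain ⟨g, rfl⟩ := hsurj s
      show LU (cm (sP _) (sQ _)) = _
      have e1 := hwd _ (hPn.conj_mem _ (hsP a) g) _ (hQn.conj_mem _ (hsQ b) g)
      rw [hPe g _ (hsP a), hQe g _ (hsQ b), hsP', hsQ'] at e1
      rw [← e1]
      show _ = nat4 (RingHom.id F) (π g) (LU (cm (sP a) (sQ b)))
      rw [← hLe g _ (hcm _ (hPN (hsP a)) _ (hQN (hsQ b)))]
      congr 1
      simp [cm, mul_assoc]
    obtain ⟨q, hq, hqC⟩ := SetLike.exists_of_lt hQlt
    refine hqC ⟨hQN hq, Subgroup.mem_centralizer_iff.2 fun p hp => ?_⟩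
    have e1 : LU (cm p q) = LU 1 := by
      rw [hwd p hp q hq, hL1]
      exact DFunLike.congr_fun (DFunLike.congr_fun hβ _) _
    have e2 : p⁻¹ * (q * p * q⁻¹) = 1 := hLinj _ (hcm p (hPN hp) q (hQN hq)) _ (one_mem _) e1
    exact eq_mul_inv_iff_mul_eq.1 (inv_mul_eq_one.1 e2)
  -- exponent two
  by_contra hcon
  push Not at hcon
  obtain ⟨x₁, hx₁, hx₁'⟩ := hcon
  have hx₁'' : x₁ * x₁ ≠ 1 := fun e => by
    obtain ⟨y, hy, hne⟩ := hx₁' e
    exact hne (hab x₁ hx₁ y hy)
  let E₂ : Subgroup G :=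
    { carrier := {x | x ∈ π.ker ∧ x * x = 1}
      one_mem' := ⟨one_mem _, one_mul 1⟩
      inv_mem' := fun {a} ha => ⟨inv_mem ha.1, by rw [← mul_inv_rev, ha.2, inv_one]⟩
      mul_mem' := fun {a b} ha hb => ⟨mul_mem ha.1 hb.1, by
        have hc : Commute b a := hab a ha.1 b hb.1
        rw [hc.mul_mul_mul_comm, ha.2, hb.2, one_mul]⟩ }
  haveI hEn : E₂.Normal := ⟨fun a ha g => ⟨conj_mem_ker ha.1, by
    rw [show g * a * g⁻¹ * (g * a * g⁻¹) = g * (a * a) * g⁻¹ by group, ha.2]; group⟩⟩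
  obtain ⟨LE, hEa, hE0, hEs, hEe⟩ := exists_natSec hsurj hN h hnat (V := E₂) (W := ⊥) (U := U)
    (bot_lt_iff_ne_bot.2 hU0) (fun a ha => ⟨hUN ha, hUsq a ha⟩) (fun a ha => ha.1)
    (fun x hx => Subgroup.mem_bot.2 hx.2)
    (fun n hn x hx => by
      rw [Subgroup.mem_bot, hab x hx.1 n hn]
      group)
    (fun P hP hlt hle => hmono P hP (hle.trans fun a ha => ha.1) hlt.ne')
  have hEU : ∀ a ∈ E₂, a ∈ U := by
    have hUE : U ≤ E₂ := fun a ha => ⟨hUN ha, hUsq a ha⟩
    have h1 : LE 1 = 0 := (hE0 1 (one_mem _)).2 (one_mem _)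
    let I : AddSubgroup (Fin 4 → F) :=
      { carrier := {v | ∃ a ∈ U, LE a = v}
        zero_mem' := ⟨1, one_mem _, h1⟩
        add_mem' := by
          rintro _ _ ⟨a, ha, rfl⟩ ⟨b, hb, rfl⟩
          exact ⟨a * b, mul_mem ha hb, hEa a (hUE ha) b (hUE hb)⟩
        neg_mem' := by
          rintro _ ⟨a, ha, rfl⟩
          refine ⟨a⁻¹, inv_mem ha, eq_neg_of_add_eq_zero_left ?_⟩
          rw [← hEa _ (inv_mem (hUE ha)) _ (hUE ha), inv_mul_cancel, h1] }
    have htop : I = ⊤ := nat4_irreducible H _ I (by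
        rintro s _ ⟨a, ha, rfl⟩
        obtain ⟨g, rfl⟩ := hsurj s
        exact ⟨_, hUn.conj_mem a ha g, hEe g a (hUE ha)⟩) fun e => by
      obtain ⟨a, ha, ha1⟩ := (Subgroup.bot_or_exists_ne_one U).resolve_left hU0
      have hm : LE a ∈ I := ⟨a, ha, rfl⟩
      rw [e, AddSubgroup.mem_bot] at hm
      exact ha1 (Subgroup.mem_bot.1 ((hE0 a (hUE ha)).1 hm))
    intro x hx
    obtain ⟨a, ha, hax⟩ : LE x ∈ I := by rw [htop]; trivial
    have h2 : LE (x * a) = 0 := by
      rw [hEa x hx a (hUE ha), hax, ← hax, ← hEa a (hUE ha) a (hUE ha), hUsq a ha, h1]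
    rw [eq_inv_of_mul_eq_one_left (Subgroup.mem_bot.1 ((hE0 _ (mul_mem hx (hUE ha))).1 h2))]
    exact inv_mem ha
  let Sq : Subgroup G :=
    { carrier := {a | ∃ x ∈ π.ker, x * x = a}
      one_mem' := ⟨1, one_mem _, one_mul 1⟩
      inv_mem' := by
        rintro _ ⟨x, hx, rfl⟩
        exact ⟨x⁻¹, inv_mem hx, (mul_inv_rev x x).symm⟩
      mul_mem' := by
        rintro _ _ ⟨x, hx, rfl⟩ ⟨y, hy, rfl⟩
        exact ⟨x * y, mul_mem hx hy, (Commute.mul_mul_mul_comm (hab x hx y hy) x y :)⟩ }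
  have hSqn : Sq.Normal := ⟨by
    rintro _ ⟨x, hx, rfl⟩ g
    exact ⟨g * x * g⁻¹, conj_mem_ker hx, by group⟩⟩
  have hUSq : U ≤ Sq := hmono Sq hSqn (by rintro _ ⟨x, hx, rfl⟩; exact mul_mem hx hx) fun e => by
    have : x₁ * x₁ ∈ Sq := ⟨x₁, hx₁, rfl⟩
    rw [e, Subgroup.mem_bot] at this
    exact hx₁'' this
  letI : CommGroup π.ker :=
    { (inferInstance : Group π.ker) with
      mul_comm := fun a b => Subtype.ext (hab b b.2 a a.2) }
  let cN : G → π.ker →* π.ker := fun g => MonoidHom.mk'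
    (fun x : π.ker => (⟨g * x * g⁻¹, conj_mem_ker x.2⟩ : π.ker))
    fun x y => Subtype.ext (by simp [mul_assoc])
  let actN : G →* AddMonoid.End (Additive π.ker) :=
    { toFun := fun g => (MonoidHom.toAdditive (cN g) : AddMonoid.End (Additive π.ker))
      map_one' := AddMonoidHom.ext fun a => by
        show Additive.ofMul (cN 1 a.toMul) = Additive.ofMul a.toMul
        rw [show cN 1 a.toMul = a.toMul from Subtype.ext (by simp [cN])]
      map_mul' := fun g k => AddMonoidHom.ext fun a => by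
        show Additive.ofMul (cN (g * k) a.toMul) = Additive.ofMul (cN g (cN k a.toMul))
        rw [show cN (g * k) a.toMul = cN g (cN k a.toMul) from
          Subtype.ext (by simp [cN, mul_assoc])] }
  have hkerN : π.ker ≤ actN.ker := fun n hn => MonoidHom.mem_ker.2 (AddMonoidHom.ext fun a =>
    Additive.toMul.injective (Subtype.ext (by
      show n * (a.toMul : G) * n⁻¹ = (a.toMul : G)
      rw [hab _ a.toMul.2 n hn, mul_inv_cancel_right])))
  obtain ⟨τ, hτ⟩ := exists_descend π hsurj actN fun n hn => MonoidHom.mem_ker.1 (hkerN hn)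
  choose sU hsU hsU' using hLs
  let i : (Fin 4 → F) →+ Additive π.ker :=
    AddMonoidHom.mk' (fun v => Additive.ofMul ⟨sU v, hUN (hsU v)⟩) fun v w => by
      refine congrArg Additive.ofMul (Subtype.ext (hLinj _ (hsU _) _ (mul_mem (hsU v) (hsU w)) ?_))
      show LU (sU (v + w)) = LU (sU v * sU w)
      rw [hLa _ (hsU v) _ (hsU w), hsU', hsU', hsU']
  let p : Additive π.ker →+ (Fin 4 → F) :=
    AddMonoidHom.mk' (fun r => LU ((r.toMul : G) * r.toMul)) fun r s => by
      show LU ((r.toMul : G) * s.toMul * ((r.toMul : G) * s.toMul)) = _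
      rw [(Commute.mul_mul_mul_comm (hab _ r.toMul.2 _ s.toMul.2) _ _ :),
        hLa _ (hsqU _ r.toMul.2) _ (hsqU _ s.toMul.2)]
  refine hfree (Additive π.ker) τ p i (fun v => ?_) (fun v w e => ?_) ?_ (fun r => ?_)
    (fun s v => ?_) (fun s r => ?_)
  · obtain ⟨x, hx, hxv⟩ := hUSq (hsU v)
    exact ⟨Additive.ofMul ⟨x, hx⟩, by show LU (x * x) = v; rw [hxv, hsU']⟩
  · rw [← hsU' v, ← hsU' w]
    exact congrArg LU (congrArg Subtype.val (Additive.ofMul.injective e))
  · ext r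
    refine ⟨fun hr => ⟨LU (r.toMul : G), ?_⟩, ?_⟩
    · have h0 : (r.toMul : G) * r.toMul = 1 :=
        hLinj _ (hsqU _ r.toMul.2) _ (one_mem _) (by rw [hL1]; exact hr)
      have hrU := hEU _ ⟨r.toMul.2, h0⟩
      exact Additive.toMul.injective (Subtype.ext (hLinj _ (hsU _) _ hrU (hsU' _)))
    · rintro ⟨v, rfl⟩
      show LU (sU v * sU v) = 0
      rw [hUsq _ (hsU v), hL1]
  · exact Additive.toMul.injective (Subtype.ext
      (hLinj _ (hsU _) _ (hsqU _ r.toMul.2) (hsU' _)))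
  · obtain ⟨g, rfl⟩ := hsurj s
    rw [hτ g]
    refine congrArg Additive.ofMul (Subtype.ext (hLinj _ (hsU _) _ (hUn.conj_mem _ (hsU v) g) ?_))
    show LU (sU _) = LU (g * sU v * g⁻¹)
    rw [hLe g _ (hsU v), hsU', hsU']
  · obtain ⟨g, rfl⟩ := hsurj s
    rw [hτ g]
    show LU (g * (r.toMul : G) * g⁻¹ * (g * (r.toMul : G) * g⁻¹)) =
      nat4 (RingHom.id F) (π g) (LU ((r.toMul : G) * r.toMul))
    rw [← hLe g _ (hsqU _ r.toMul.2)]
    congr 1
    group

end

/-- **A 2-group kernel over a Suzuki group without fixed points is elementary abelian**, given the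
three module facts. -/
theorem elementary_of_hyps {F : Type} [Field F] [Finite F] {e : ℕ} (H : TitsField F e)
    (hnat : NatHyp.{u} F e) (hbil : BilHyp F e) (hfree : FreeHyp.{u} F e) :
    ∀ (n : ℕ) {G : Type u} [Group G] [Finite G] (π : G →* Sz F e), Nat.card G = n →
      Function.Surjective π → IsPGroup 2 π.ker → GFPF π →
      ∀ x ∈ π.ker, x * x = 1 ∧ ∀ y ∈ π.ker, y * x = x * y := by
  intro n
  induction n using Nat.strong_induction_on with
  | _ n ihn =>
    intro G _ _ π hn hsurj hN h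
    refine elementary_step H hsurj hN h hnat hbil hfree fun P hPn hPN hP0 => ?_
    haveI := hPn
    let π' : G ⧸ P →* Sz F e := QuotientGroup.lift P π hPN
    have hker : π'.ker = π.ker.map (QuotientGroup.mk' P) := QuotientGroup.ker_lift P π hPN
    have hlt : Nat.card (G ⧸ P) < n := by
      rw [← hn, P.card_eq_card_quotient_mul_card_subgroup]
      exact lt_mul_of_one_lt_right Nat.card_pos ((Subgroup.one_lt_card_iff_ne_bot P).2 hP0)
    have hN' : IsPGroup 2 π'.ker := hker ▸ hN.map _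
    have h' : GFPF π' := by
      intro g hg1 hgo m hm hgm
      obtain ⟨g₁, rfl, hg₁o⟩ := exists_odd_lift (QuotientGroup.mk' P) (QuotientGroup.mk'_surjective P) hgo
      rw [hker] at hm
      obtain ⟨n₁, hn₁, rfl⟩ := hm
      refine (QuotientGroup.eq_one_iff _).2 (h.mem hN hPN (fun e => hg1 (by rw [e, map_one])) hg₁o
        hn₁ ((QuotientGroup.eq_one_iff _).1 ?_))
      show QuotientGroup.mk' P (n₁⁻¹ * (g₁ * n₁ * g₁⁻¹)) = 1
      rw [map_mul, map_inv, map_mul, map_mul, map_inv, hgm, mul_inv_cancel_right, inv_mul_cancel]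
    have hs' : Function.Surjective π' := fun s => by
      obtain ⟨g, rfl⟩ := hsurj s
      exact ⟨QuotientGroup.mk g, rfl⟩
    intro x hx
    have hmem : ∀ y ∈ π.ker, QuotientGroup.mk' P y ∈ π'.ker := fun y hy =>
      hker.symm ▸ Subgroup.mem_map_of_mem _ hy
    obtain ⟨a1, a2⟩ := ihn _ hlt π' rfl hs' hN' h' _ (hmem x hx)
    refine ⟨(QuotientGroup.eq_one_iff _).1 ?_, fun y hy => (QuotientGroup.eq_one_iff _).1 ?_⟩
    · show QuotientGroup.mk' P (x * x) = 1
      rw [map_mul]; exact a1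
    · show QuotientGroup.mk' P (x⁻¹ * (y * x * y⁻¹)) = 1
      rw [map_mul, map_inv, map_mul, map_mul, map_inv, a2 _ (hmem y hy), mul_inv_cancel_right,
        inv_mul_cancel]

/-- The same, in the final form. -/
theorem elementary_of_facts {G : Type u} [Group G] [Finite G] {F : Type} [Field F] [Finite F]
    {e : ℕ} (H : TitsField F e) (hnat : NatHyp.{u} F e) (hbil : BilHyp F e)
    (hfree : FreeHyp.{u} F e) (π : G →* Sz F e) (hsurj : Function.Surjective π)
    (hN : IsPGroup 2 π.ker) (hfpf : GFPF π) :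
    IsMulCommutative π.ker ∧ ∀ x ∈ π.ker, x * x = 1 :=
  have h := elementary_of_hyps H hnat hbil hfree _ π rfl hsurj hN hfpf
  ⟨⟨⟨fun a b => Subtype.ext ((h b b.2).2 a a.2)⟩⟩, fun x hx => (h x hx).1⟩

/-- **Martineau's theorem**: a 2-group kernel over a Suzuki group on which the elements of odd
order act without fixed points is elementary abelian. -/
theorem elementary {G : Type u} [Group G] [Finite G] {F : Type} [Field F] [Finite F] {e : ℕ}
    (H : TitsField F e) (h8 : 8 ≤ Nat.card F) (π : G →* Sz F e) (hsurj : Function.Surjective π)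
    (hN : IsPGroup 2 π.ker)
    (hfpf : ∀ g : G, g ≠ 1 → Odd (orderOf g) → ∀ n ∈ π.ker, g * n = n * g → n = 1) :
    IsMulCommutative π.ker ∧ ∀ x ∈ π.ker, x * x = 1 :=
  elementary_of_facts H
    (fun M _ _ h2 τ hf U hU hmon => nat_of_monolith H h8 h2 τ (fun g ho h1 => hf g h1 ho) hU
      fun P hP hinv => hmon P hinv hP)
    (fun β heq => biadd_eq_zero H h8 β heq)
    (fun R _ τ p i hp hi hex hd hie hpe => no_free_lift H h8 τ p i hp hi hex hd hie hpe)
    π hsurj hN hfpf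

end CfsgLib.Recog.SzModule
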